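import Groth.Agent.ProjLefLib.Formal
import Groth.Agent.CohCmpLib.FamilyPic2
import Groth.Agent.ExtShLib.DivExt
import Groth.Agent.AVAmpleLib.Degree

/-!
# Homomorphisms to the formal completion on an open neighbourhood
-/

set_option autoImplicit false
set_option linter.style.haveILetI false
set_option backward.isDefEq.respectTransparency false
set_option backward.isDefEq.respectTransparency.types false
set_option maxHeartbeats 1000000

universe u

open CategoryTheory CategoryTheory.Limits AlgebraicGeometry TopologicalSpace Opposite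

noncomputable section

namespace ProjLefLib

variable {X : Scheme.{u}} [IsLocallyNoetherian X] (U : X.Opens)

theorem isIso_unitToPush_ι
    (h : ∀ x : X, x ∉ U → (2 : ℕ∞) ≤ LocCoh.depth (X.presheaf.stalk x) (X.presheaf.stalk x)) :
    IsIso (ClSub.unitToPush U.ι) := by
  have hF : Coh.IsCoh (Coh.structureModule X) := DevissLib.isCoh_structureModule X
  haveI := RefHullLib.isIso_unit_of_depth U hF fun x hx => by
    obtain ⟨e⟩ := AVAmpleLib.nonempty_stalk_structureModule X x
    exact le_of_le_of_eq (h x hx) (CommAlgDim.depth_congr e)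
  refine CohCmpLib.isIso_unitToPush_of_app U.ι fun W => (ConcreteCategory.isIso_iff_bijective _).2 ?_
  have hb := ConcreteCategory.bijective_of_isIso
    (((Scheme.Modules.restrictAdjunction U.ι).unit.app (Coh.structureModule X)).app W)
  rw [Scheme.Modules.restrictAdjunction_unit_app_app] at hb
  rw [Scheme.Opens.ι_app]
  exact hb

variable (𝓘 : X.IdealSheafData)

/-- The quotient by a power of the ideal, seen on a neighbourhood. -/
def nhdQuot (n : ℕ) :
    ClSub.quotMod (𝓘 ^ (n + 1)) ⟶ (Scheme.Modules.pushforward U.ι).obj (ClSub.quotMod ((𝓘.comap U.ι) ^ (n + 1))) :=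
  (Scheme.Modules.pushforward (𝓘 ^ (n + 1)).subschemeι).map (ClSub.unitToPush (LeffPicLib.fromNhd 𝓘 U n)) ≫
    (Scheme.Modules.pushforwardComp (LeffPicLib.fromNhd 𝓘 U n) (𝓘 ^ (n + 1)).subschemeι).hom.app _ ≫
      (Scheme.Modules.pushforwardCongr (LeffPicLib.fromNhd_ι 𝓘 U n)).hom.app _ ≫
        (Scheme.Modules.pushforwardComp ((𝓘.comap U.ι) ^ (n + 1)).subschemeι U.ι).inv.app _

theorem toSub_nhdQuot (n : ℕ) :
    ClSub.toSubscheme (𝓘 ^ (n + 1)) ≫ nhdQuot U 𝓘 n =
      ClSub.unitToPush U.ι ≫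
        (Scheme.Modules.pushforward U.ι).map (ClSub.toSubscheme ((𝓘.comap U.ι) ^ (n + 1))) := by
  have h := LeffPicLib.unitToPush_congr (LeffPicLib.fromNhd_ι 𝓘 U n)
  rw [LeffPicLib.unitToPush_comp, LeffPicLib.unitToPush_comp] at h
  rw [← cancel_mono ((Scheme.Modules.pushforwardComp ((𝓘.comap U.ι) ^ (n + 1)).subschemeι U.ι).hom.app _)]
  simp only [nhdQuot, Category.assoc, Iso.inv_hom_id_app]
  refine Eq.trans ?_ h.symm
  simp only [Category.assoc]
  erw [Category.comp_id]
  rfl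

variable (hU : (𝓘.support : Set X) ⊆ (U : Set X))

include hU in
theorem isIso_nhdQuot (n : ℕ) : IsIso (nhdQuot U 𝓘 n) := by
  haveI := LeffPicLib.isIso_fromNhd 𝓘 U hU n
  haveI := ExtShLib.isIso_unitToPush_of_isIso (LeffPicLib.fromNhd 𝓘 U n)
  rw [nhdQuot]
  infer_instance

theorem nhdQuot_quotMap (n : ℕ) :
    nhdQuot U 𝓘 (n + 1) ≫ (Scheme.Modules.pushforward U.ι).map (Lef.quotMap (Lef.pow_succ_le (𝓘.comap U.ι) n)) =
      Lef.quotMap (Lef.pow_succ_le 𝓘 n) ≫ nhdQuot U 𝓘 n := by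
  haveI : Epi (ClSub.toSubscheme (𝓘 ^ (n + 1 + 1))) := CurvLib.epi_toSubscheme _
  rw [← cancel_epi (ClSub.toSubscheme (𝓘 ^ (n + 1 + 1))), reassoc_of% toSub_nhdQuot U 𝓘 (n + 1),
    ← Functor.map_comp, toSub_quotMap, reassoc_of% toSub_quotMap (Lef.pow_succ_le 𝓘 n), toSub_nhdQuot]

include hU in
/-- The condition for a module extending over `X`, when the boundary has depth two. -/
theorem homToFormalBijective_restrict (hd : IsIso (ClSub.unitToPush U.ι)) {D : (U : Scheme.{u}).Modules}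
    {D' : X.Modules} (e : D'.restrict U.ι ≅ D) (h : Lef.HomToFormalBijective 𝓘 D') :
    Lef.HomToFormalBijective (𝓘.comap U.ι) D := by
  let adj := Scheme.Modules.restrictAdjunction U.ι
  haveI := hd
  haveI : ∀ n, IsIso (nhdQuot U 𝓘 n) := isIso_nhdQuot U 𝓘 hU
  let η := ClSub.unitToPush U.ι
  let P := Scheme.Modules.pushforward U.ι
  have key : ∀ (φ : D ⟶ Coh.structureModule (U : Scheme.{u})) (n : ℕ),
      adj.homEquiv _ _ (e.hom ≫ φ ≫ ClSub.toSubscheme ((𝓘.comap U.ι) ^ (n + 1))) =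
        (adj.homEquiv _ _ (e.hom ≫ φ) ≫ inv η) ≫ ClSub.toSubscheme (𝓘 ^ (n + 1)) ≫ nhdQuot U 𝓘 n := fun φ n => by
    rw [toSub_nhdQuot, Category.assoc, IsIso.inv_hom_id_assoc, ← Category.assoc e.hom]
    exact adj.homEquiv_naturality_right _ _
  refine ⟨fun φ ψ hh => ?_, fun y hy => ?_⟩
  · have := h.1 (adj.homEquiv _ _ (e.hom ≫ φ) ≫ inv η) (adj.homEquiv _ _ (e.hom ≫ ψ) ≫ inv η) fun n => by
      refine (cancel_mono (nhdQuot U 𝓘 n)).1 ?_
      refine (Category.assoc _ _ _).trans ((key φ n).symm.trans ?_)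
      rw [hh n]
      exact (key ψ n).trans (Category.assoc _ _ _).symm
    exact (cancel_epi e.hom).1 ((adj.homEquiv _ _).injective ((cancel_mono (inv η)).1 this))
  · obtain ⟨Φ, hΦ⟩ := h.2 (fun n => adj.homEquiv _ _ (e.hom ≫ y n) ≫ inv (nhdQuot U 𝓘 n)) fun n => by
      rw [← cancel_mono (nhdQuot U 𝓘 n)]
      simp only [Category.assoc, IsIso.inv_hom_id, Category.comp_id]
      rw [← nhdQuot_quotMap, IsIso.inv_hom_id_assoc, ← hy n, ← Category.assoc e.hom]
      exact (adj.homEquiv_naturality_right _ _).symm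
    refine ⟨e.inv ≫ (adj.homEquiv _ _).symm (Φ ≫ η), fun n => ?_⟩
    refine (cancel_epi e.hom).1 ((adj.homEquiv _ _).injective ?_)
    rw [key, Iso.hom_inv_id_assoc, Equiv.apply_symm_apply]
    simp only [Category.assoc, η, IsIso.hom_inv_id_assoc]
    rw [← Category.assoc, hΦ n, Category.assoc, IsIso.inv_hom_id, Category.comp_id]

end ProjLefLib
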