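import Groth.Agent.ProjLefLib.Existence
import Groth.Agent.RegAlgzLib.Leff
import Groth.Agent.CycP1Lib.Subscheme
import Groth.Agent.DepthTensModLib.Basic
import Groth.Agent.RegAlgzLib.Push

/-!
# The effective Lefschetz condition for an ample divisor
-/

set_option autoImplicit false
set_option linter.style.haveILetI false
set_option linter.unusedSectionVars false
set_option backward.isDefEq.respectTransparency false
set_option backward.isDefEq.respectTransparency.types false
set_option maxHeartbeats 1000000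

universe u

open CategoryTheory CategoryTheory.Limits AlgebraicGeometry TopologicalSpace Opposite FSch

noncomputable section

namespace ProjLefLib

variable {X : Scheme.{u}} [IsLocallyNoetherian X] {𝓘 : X.IdealSheafData}

theorem exists_level_point {y : X} (hy : y ∈ (𝓘.support : Set X)) (n : ℕ) :
    ∃ z : (completionAlong X 𝓘).X n, completionToX X 𝓘 n z = y := by
  have h' : y ∈ Set.range (completionToX X 𝓘 n) := by
    show y ∈ Set.range (𝓘 ^ (n + 1)).subschemeι
    rw [Scheme.IdealSheafData.range_subschemeι, Scheme.IdealSheafData.support_pow_succ]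
    exact hy
  exact h'

/-- At a point of a level the kernel is generated by the power of a local equation. -/
theorem ker_level_stalk {V : X.affineOpens} {t : Γ(X, V.1)} (hV : 𝓘.ideal V = Ideal.span {t}) (n : ℕ)
    (z : (completionAlong X 𝓘).X n) (hz : completionToX X 𝓘 n z ∈ V.1) :
    RingHom.ker ((completionToX X 𝓘 n).stalkMap z).hom =
      Ideal.span {X.presheaf.germ V.1 (completionToX X 𝓘 n z) hz t ^ (n + 1)} := by
  haveI := FComplLib.isClosedImmersion_completionToX X 𝓘 n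
  rw [FComplLib.ker_stalkMap (completionToX X 𝓘 n) z V hz]
  show ((𝓘 ^ (n + 1)).subschemeι.ker.ideal V).map _ = _
  rw [Scheme.IdealSheafData.ker_subschemeι, Scheme.IdealSheafData.ideal_pow, Pi.pow_apply, hV,
    Ideal.span_singleton_pow, Ideal.map_span, Set.image_singleton, map_pow]

theorem isSMulRegular_germ {V : X.affineOpens} {t : Γ(X, V.1)} (ht : t ∈ nonZeroDivisors Γ(X, V.1)) (y : X)
    (hy : y ∈ V.1) : IsSMulRegular (X.presheaf.stalk y) (X.presheaf.germ V.1 y hy t) := by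
  letI : Algebra Γ(X, V.1) (X.presheaf.stalk y) := (X.presheaf.germ V.1 y hy).hom.toAlgebra
  haveI : IsLocalization (V.2.primeIdealOf ⟨y, hy⟩).asIdeal.primeCompl (X.presheaf.stalk y) :=
    V.2.isLocalization_stalk ⟨y, hy⟩
  haveI : Module.Flat Γ(X, V.1) (X.presheaf.stalk y) :=
    IsLocalization.flat _ (V.2.primeIdealOf ⟨y, hy⟩).asIdeal.primeCompl
  have hreg : IsSMulRegular Γ(X, V.1) t := (isRegular_iff_mem_nonZeroDivisors.2 ht).left
  exact hreg.of_flat (S := X.presheaf.stalk y)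

/-- **A coherent module with locally free completion is free at the points of the divisor.** -/
theorem free_stalk (hI : BlowUp.IsEffCartierIdeal 𝓘) {F : X.Modules} (hF : Coh.IsCoh F)
    (hfree : ∀ n, FlatMod.IsFinLocFree ((Scheme.Modules.pullback (completionToX X 𝓘 n)).obj F))
    {y : X} (hy : y ∈ (𝓘.support : Set X)) : Module.Free (X.presheaf.stalk y) (F.presheaf.stalk y) := by
  haveI := hF.1
  let R := X.presheaf.stalk y
  haveI : Module.Finite R (F.presheaf.stalk y) := DepthLib.finite_stalk F hF.2 y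
  haveI := fun n => FComplLib.isClosedImmersion_completionToX X 𝓘 n
  obtain ⟨V, t, hyV, -, hV⟩ := exists_chart 𝓘 hI y
  refine RegAlgzLib.free_of_forall_levels (R := R) (M := F.presheaf.stalk y)
    (Ideal.span {X.presheaf.germ V.1 y hyV t}) ?_ fun n => ?_
  · obtain ⟨z, rfl⟩ := exists_level_point hy 0
    rw [← pow_one (X.presheaf.germ V.1 _ hyV t), ← ker_level_stalk hV 0 z hyV]
    exact IsLocalRing.le_maximalIdeal (RingHom.ker_ne_top _)
  obtain ⟨z, rfl⟩ := exists_level_point hy n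
  let φ := (completionToX X 𝓘 n).stalkMap z
  letI : Algebra R (((completionAlong X 𝓘).X n).presheaf.stalk z) := φ.hom.toAlgebra
  obtain ⟨s, ⟨e⟩⟩ := LocSuppLib.nonempty_stalk_pi (hfree n) z
  refine ⟨((completionAlong X 𝓘).X n).presheaf.stalk z, inferInstance, inferInstance,
    (completionToX X 𝓘 n).stalkMap_surjective z, ?_, s, ⟨?_⟩⟩
  · rw [Ideal.span_singleton_pow]
    exact (ker_level_stalk hV n z hyV).le
  · exact ((KFlatLib.stalkPullIso (completionToX X 𝓘 n) z).app F).toLinearEquiv.symm.trans e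

/-- The depth of the bottom level. -/
theorem le_depth_lev_zero (hI : BlowUp.IsEffCartierIdeal 𝓘) {𝔐 : ModSys (completionAlong X 𝓘)}
    (hF : LefX.LevelwiseFinLocFree 𝔐) (y : X) {d : ℕ}
    (h : y ∈ (𝓘.support : Set X) → ((d + 1 : ℕ) : ℕ∞) ≤ LocCoh.depth (X.presheaf.stalk y) (X.presheaf.stalk y)) :
    (d : ℕ∞) ≤ LocCoh.depth (X.presheaf.stalk y) ((lev 𝓘 𝔐 0).presheaf.stalk y) := by
  haveI := fun n => FComplLib.isClosedImmersion_completionToX X 𝓘 n
  by_cases hy : y ∈ (𝓘.support : Set X)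
  · obtain ⟨V, t, hyV, ht, hV⟩ := exists_chart 𝓘 hI y
    obtain ⟨z, rfl⟩ := exists_level_point hy 0
    have hk := ker_level_stalk hV 0 z hyV
    rw [zero_add, pow_one] at hk
    haveI : IsLocallyNoetherian ((completionAlong X 𝓘).X 0) :=
      LocallyOfFiniteType.isLocallyNoetherian (completionToX X 𝓘 0)
    refine le_of_le_of_eq ?_
      (RegAlgzLib.depth_push (completionToX X 𝓘 0) (𝔐.F 0) (LocSuppLib.isCoh_of_isFinLocFree (hF 0)) z).symm
    refine LocSuppLib.le_depth_stalk (hF 0) z ?_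
    refine (Groth.Agent.S1685.le_depth_quotient ((completionToX X 𝓘 0).stalkMap z).hom
      ((completionToX X 𝓘 0).stalkMap_surjective z) _ hk (isSMulRegular_germ ht _ hyV) ?_ (h hy)).1
    refine IsLocalRing.le_maximalIdeal (RingHom.ker_ne_top ((completionToX X 𝓘 0).stalkMap z).hom) ?_
    rw [hk]
    exact Ideal.mem_span_singleton_self _
  · haveI : Subsingleton ((lev 𝓘 𝔐 0).presheaf.stalk y) := not_not.mp fun hs => (show y ∉ Set.range (completionToX X 𝓘 0) by
      intro hy'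
      have h' : y ∈ Set.range (𝓘 ^ (0 + 1)).subschemeι := hy'
      rw [Scheme.IdealSheafData.range_subschemeι, Scheme.IdealSheafData.support_pow_succ] at h'
      exact hy h') (DevissLib.support_push_subset (completionToX X 𝓘 0) (𝔐.F 0) hs)
    rw [DepthTensModLib.depth_eq_top]
    exact le_top

/-- **The effective Lefschetz condition from vanishing.** -/
theorem leffCond_of_van {A : Type u} [CommRing A] [IsNoetherianRing A] [X.Over (Spec (CommRingCat.of A))]
    [IsProper (X ↘ Spec (CommRingCat.of A))] {L : X.Modules} (hI : BlowUp.IsEffCartierIdeal 𝓘)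
    (hL : ClSub.IsInverseOf L (ClSub.idealMod 𝓘)) (hamp : CohB1.IsAmple L) (hv : VanAll 𝓘)
    (hY : ∀ 𝔐 : ModSys (completionAlong X 𝓘), LefX.LevelwiseFinLocFree 𝔐 → Van 𝓘 (lev 𝓘 𝔐 0))
    (hLef : Lef.LefCond X 𝓘) : LefX.LeffCond X 𝓘 := by
  refine ⟨hLef, fun 𝔐 h𝔐 => ?_⟩
  obtain ⟨F, hF, ⟨e⟩⟩ := exists_algebraization (A := A) hI hL hamp hv hY 𝔐 h𝔐
  have hfree : ∀ n, FlatMod.IsFinLocFree ((Scheme.Modules.pullback (completionToX X 𝓘 n)).obj F) := fun n =>
    Groth.Agent.PerfLib.isFinLocFree_of_iso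
      (⟨e.inv.app n, e.hom.app n, congrArg (fun f => FSch.ModSys.Hom.app f n) e.inv_hom_id,
        congrArg (fun f => FSch.ModSys.Hom.app f n) e.hom_inv_id⟩ : 𝔐.F n ≅ (FSch.complMod 𝓘 F).F n) (h𝔐 n)
  have hloc : ∀ y : X, y ∈ (𝓘.support : Set X) → ∃ (O : X.Opens) (n : ℕ),
      y ∈ O ∧ Nonempty (F.restrict O.ι ≅ FlatMod.freeMod (↑O) n) := fun y hy => by
    haveI := free_stalk hI hF hfree hy
    exact RegAlgzLib.exists_free_nhd_of_free_stalk F hF y
  choose O n hO φ using hloc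
  let U : X.Opens := ⨆ (y : X) (hy : y ∈ (𝓘.support : Set X)), O y hy
  have hU : (𝓘.support : Set X) ⊆ (U : Set X) := fun y hy => Opens.mem_iSup.2 ⟨y, Opens.mem_iSup.2 ⟨hy, hO y hy⟩⟩
  refine ⟨U, F.restrict U.ι, hU, CohCmpLib.isFinLocFree_restrict_of_nhds F U fun x hx => ?_, ?_⟩
  · obtain ⟨y, hx⟩ := Opens.mem_iSup.1 hx
    obtain ⟨hy, hx⟩ := Opens.mem_iSup.1 hx
    exact ⟨O y hy, n y hy, hx, φ y hy⟩
  · obtain ⟨α⟩ := RegAlgzLib.nonempty_completionMod_restrict_iso 𝓘 F hU
    exact ⟨α ≪≫ LefAlgzLib.completionModIso 𝓘 F ≪≫ e⟩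

/-- **The effective Lefschetz condition for an ample effective Cartier divisor over a field.** -/
theorem leffCond_field {X : Scheme.{u}} (k : Type u) [Field k] [X.Over (Spec (CommRingCat.of k))]
    [IsProper (X ↘ Spec (CommRingCat.of k))] (𝓘 : X.IdealSheafData) {L : X.Modules}
    (hL : ClSub.IsInverseOf L (ClSub.idealMod 𝓘)) (hamp : CohB1.IsAmple L)
    (hd : ∀ x : X, IsClosed ({x} : Set X) → (2 : ℕ∞) ≤ LocCoh.depth (X.presheaf.stalk x) (X.presheaf.stalk x))
    (hd3 : ∀ x : X, IsClosed ({x} : Set X) → x ∈ (𝓘.support : Set X) →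
      (3 : ℕ∞) ≤ LocCoh.depth (X.presheaf.stalk x) (X.presheaf.stalk x)) : LefX.LeffCond X 𝓘 := by
  haveI : IsNoetherian X := CurvLib.isNoetherian k (X := X)
  have hI : BlowUp.IsEffCartierIdeal 𝓘 := IntMultLib.isEffCartier_of_isInvertible 𝓘
    (CohCmpLib.isInvertible_of_inverse' hamp.1 hL.some)
  have hvan : ∀ G : X.Modules, Coh.IsCoh G → (∀ x : X, IsClosed ({x} : Set X) →
      ((2 : ℕ) : ℕ∞) ≤ LocCoh.depth (X.presheaf.stalk x) (G.presheaf.stalk x)) → Van 𝓘 G := fun G hG hdG => by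
    obtain ⟨m₀, hm₀⟩ := PnDualLib.exists_vanishing_ample_neg k hamp hL G hG 2 hdG
    refine ⟨m₀, fun n hn j hj => ?_⟩
    obtain ⟨-, ⟨e⟩⟩ := BlowPtLib.nonempty_idealMod_pow 𝓘 hI n
    exact SerreVanLib.subsingleton_HH_of_iso (HilbPolyLib.congrRight G e.symm) j (hm₀ n hn j hj)
  refine leffCond_of_van (A := k) hI hL hamp (fun M hM => hvan M (LocSuppLib.isCoh_of_isFinLocFree hM)
    fun x hx => LocSuppLib.le_depth_stalk hM x (hd x hx)) (fun 𝔐 h𝔐 => hvan _ ((levSys 𝓘 𝔐 h𝔐).coh 0)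
      fun x hx => le_depth_lev_zero hI h𝔐 x (d := 2) fun hy => hd3 x hx hy) (lefCond_field k 𝓘 hL hamp hd)

end ProjLefLib
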