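import Groth.Agent.ProjLefLib.Compl
import Groth.Agent.QCohLib.Push

/-!
# Recognising a completion
-/

set_option autoImplicit false
set_option linter.style.haveILetI false
set_option linter.unusedSectionVars false
set_option backward.isDefEq.respectTransparency false
set_option backward.isDefEq.respectTransparency.types false
set_option maxHeartbeats 1000000

universe u

open CategoryTheory CategoryTheory.Limits AlgebraicGeometry TopologicalSpace Opposite FSch

noncomputable section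

namespace ProjLefLib

/-- A map out of an inverse image along a closed immersion is invertible when its direct image is. -/
theorem isIso_of_isIso_push {Z X : Scheme.{u}} (p : Z ⟶ X) [IsClosedImmersion p] {M N : Z.Modules} (θ : M ⟶ N)
    (h : IsIso ((Scheme.Modules.pushforward p).map θ)) : IsIso θ := by
  let adj := Scheme.Modules.pullbackPushforwardAdjunction p
  haveI := CycKSuppLib.isIso_counit p M
  haveI := CycKSuppLib.isIso_counit p N
  have e : θ = inv (adj.counit.app M) ≫ (Scheme.Modules.pullback p).map ((Scheme.Modules.pushforward p).map θ) ≫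
      adj.counit.app N := by
    rw [IsIso.eq_inv_comp]
    exact (adj.counit.naturality θ).symm
  rw [e]
  infer_instance

variable {X : Scheme.{u}} [IsLocallyNoetherian X] (𝓘 : X.IdealSheafData)

/-- The map from a completion level adjoint to `g`. -/
def adjLev {M : X.Modules} (n : ℕ) {N : ((completionAlong X 𝓘).X n).Modules}
    (g : M ⟶ (Scheme.Modules.pushforward (completionToX X 𝓘 n)).obj N) :
    (Scheme.Modules.pullback (completionToX X 𝓘 n)).obj M ⟶ N :=
  ((Scheme.Modules.pullbackPushforwardAdjunction (completionToX X 𝓘 n)).homEquiv _ _).symm g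

theorem cπ_adjLev {M : X.Modules} (n : ℕ) {N : ((completionAlong X 𝓘).X n).Modules}
    (g : M ⟶ (Scheme.Modules.pushforward (completionToX X 𝓘 n)).obj N) :
    cπ 𝓘 M n ≫ (Scheme.Modules.pushforward (completionToX X 𝓘 n)).map (adjLev 𝓘 n g) = g :=
  ((Scheme.Modules.pullbackPushforwardAdjunction (completionToX X 𝓘 n)).homEquiv_unit _ _ _).symm.trans
    (Equiv.apply_symm_apply _ _)

/-- **A module whose reductions are the levels completes to the system.** -/
theorem nonempty_complMod_iso (hI : BlowUp.IsEffCartierIdeal 𝓘) (𝔐 : ModSys (completionAlong X 𝓘))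
    (hF : LefX.LevelwiseFinLocFree 𝔐) {M : X.Modules} [Coh.IsQCoh M] (g : ∀ n, M ⟶ lev 𝓘 𝔐 n)
    (hg : ∀ n, g (n + 1) ≫ FCohLib.gTr 𝓘 𝔐 n = g n)
    (hc : ∀ x : X, ∃ (V : X.affineOpens) (t : Γ(X, V.1)), x ∈ V.1 ∧ 𝓘.ideal V = Ideal.span {t} ∧ ∀ n,
      Function.Surjective ((g n).app V.1) ∧
        ∀ m, (g n).app V.1 m = 0 → ∃ m' : Γ(M, V.1), t ^ (n + 1) • m' = m) :
    Nonempty (complMod 𝓘 M ≅ 𝔐) := by
  haveI : ∀ n, IsClosedImmersion (completionToX X 𝓘 n) := fun n => FComplLib.isClosedImmersion_completionToX X 𝓘 n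
  haveI : ∀ n, IsLocallyNoetherian ((completionAlong X 𝓘).X n) := fun n =>
    LocallyOfFiniteType.isLocallyNoetherian (completionToX X 𝓘 n)
  haveI hQ : ∀ n, Coh.IsQCoh (lev 𝓘 𝔐 n) := fun n => ((levSys 𝓘 𝔐 hF).coh n).1
  haveI hP : ∀ n, Coh.IsQCoh (lev 𝓘 (complMod 𝓘 M) n) := fun n => by
    haveI : Coh.IsQCoh ((complMod 𝓘 M).F n) := KFlatLib.isQCoh_pullback (completionToX X 𝓘 n) M
    exact QCohLib.isQCoh_pushforward (completionToX X 𝓘 n) _
  let θ := fun n => adjLev 𝓘 n (g n)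
  have hθ : ∀ n, IsIso (θ n) := fun n => isIso_of_isIso_push (completionToX X 𝓘 n) _ (by
    let f : lev 𝓘 (complMod 𝓘 M) n ⟶ lev 𝓘 𝔐 n := (Scheme.Modules.pushforward (completionToX X 𝓘 n)).map (θ n)
    have hf : cπ 𝓘 M n ≫ f = g n := cπ_adjLev 𝓘 n (g n)
    haveI : Coh.IsQCoh (kernel f) := QCohLib.isQCoh_kernel f
    haveI : Mono f := Preadditive.mono_of_kernel_zero (HilbObsLib.eq_zero_of_app _ fun x => by
      obtain ⟨V, t, hx, hV, hgV⟩ := hc x
      refine ⟨V.1, V.2, hx, fun z => ?_⟩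
      obtain ⟨m, hm⟩ := (cπ_affine 𝓘 hV M n).1 ((kernel.ι f).app V.1 z)
      have h0 : (g n).app V.1 m = 0 := by
        rw [← hf]
        exact (congrArg (f.app V.1) hm).trans congr(Scheme.Modules.Hom.app $(kernel.condition f) V.1 z)
      obtain ⟨m', rfl⟩ := (hgV n).2 m h0
      rw [← hm]
      exact ((cπ_affine 𝓘 hV M n).2 _).2 ⟨m', rfl⟩)
    haveI : Epi f := HilbObsLib.epi_of_app_surjective _ fun x => by
      obtain ⟨V, t, hx, hV, hgV⟩ := hc x
      refine ⟨V.1, V.2, hx, fun z => ?_⟩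
      obtain ⟨m, rfl⟩ := (hgV n).1 z
      exact ⟨(cπ 𝓘 M n).app V.1 m, congr(Scheme.Modules.Hom.app $hf V.1 m)⟩
    exact isIso_of_mono_of_epi f)
  refine ⟨FCohLib.modSysIso (𝔐 := complMod 𝓘 M) (fun n => @asIso _ _ _ _ (θ n) (hθ n)) fun k => ?_⟩
  rw [FCohLib.complMod_e_hom]
  exact FCohLib.compat_adjuncts (N := 𝔐.F (k + 1)) (N₀ := 𝔐.F k) (e := (𝔐.e k).hom) (Q₁ := lev 𝓘 𝔐 (k + 1))
    (Q₀ := lev 𝓘 𝔐 k) (π₁ := g (k + 1)) (π₀ := g k) (T := FCohLib.gTr 𝓘 𝔐 k)
    ((completionAlong X 𝓘).ι k) (completionToX X 𝓘 (k + 1)) (completionToX_comm X 𝓘 k) (hg k)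
    (γ₁ := 𝟙 _) (γ₀ := 𝟙 _) ((Category.comp_id _).trans (Category.id_comp _).symm)
    ((cπ_adjLev 𝓘 (k + 1) (g (k + 1))).trans (Category.comp_id _).symm)
    ((cπ_adjLev 𝓘 k (g k)).trans (Category.comp_id _).symm)

end ProjLefLib
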