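import Groth.Agent.ProjLefLib.Transfer
import Groth.Agent.LimHomLib.ExtendFP
import Groth.Agent.PnDualLib.Embed
import Groth.Agent.LefDisjLib.Main
import Groth.Agent.HilbLCLib.Basic
import Groth.Agent.ConsLib.ModLoci
import Groth.Agent.IntMultLib.Cartier
import Groth.Agent.BlowPtLib.Plane
import Groth.Agent.QCohLib.Coherent
import Groth.Agent.QGorBCLib.Extends
import Groth.Agent.LocSuppLib.LocFree

/-!
# The Lefschetz condition from the vanishing of negative twists
-/

set_option autoImplicit false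
set_option linter.style.haveILetI false
set_option backward.isDefEq.respectTransparency false
set_option backward.isDefEq.respectTransparency.types false
set_option maxHeartbeats 1000000

universe u

open CategoryTheory CategoryTheory.Limits CategoryTheory.Abelian AlgebraicGeometry TopologicalSpace Opposite

noncomputable section

namespace ProjLefLib

variable {X : Scheme.{u}}

/-- No maps out of an untwisted free module when the twist of the target has no sections. -/
theorem subsingleton_hom_untwist {A C : X.Modules} (vC : CohB1.tensorMod C A ≅ Coh.structureModule X) (p : ℕ)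
    (Q : X.Modules) (h : Subsingleton (Coh.HH X (CohB1.tensorMod Q C) 0)) :
    Subsingleton (CohB1.tensorMod A (FlatMod.freeMod X p) ⟶ Q) := by
  let T := CurvLib.tensorLeft' C
  haveI : T.IsEquivalence := VBP1Lib.isEquivalence_tensor vC
  let e : T.obj (CohB1.tensorMod A (FlatMod.freeMod X p)) ≅ FlatMod.freeMod X p :=
    (SerreVanLib.tensorAssoc C A (FlatMod.freeMod X p)).symm ≪≫ HilbPolyLib.congrLeft vC _ ≪≫
      KFlatLib.tensUnitIso _
  haveI : Subsingleton (Coh.HH X (T.obj Q) 0) :=
    SerreVanLib.subsingleton_HH_of_iso (KFlatLib.tensSwap Q C) 0 h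
  haveI : Subsingleton (CohCmpLib.HC X (T.obj Q) 0) := ‹Subsingleton (Coh.HH X (T.obj Q) 0)›
  haveI : Subsingleton Γ(T.obj Q, (⊤ : X.Opens)) := (CohCmpLib.h0E (T.obj Q)).symm.injective.subsingleton
  haveI : Subsingleton (Coh.structureModule X ⟶ T.obj Q) :=
    (KFlatLib.unitSecEquiv (T.obj Q)).injective.subsingleton
  refine ⟨fun φ ψ => T.map_injective ((cancel_epi e.inv).1 ?_)⟩
  exact Sigma.hom_ext (f := fun _ : Fin p => Coh.structureModule X) _ _ fun i => Subsingleton.elim _ _

/-- Every coherent module is a quotient of an untwisted free module. -/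
theorem exists_cover [IsNoetherian X] {L : X.Modules} (hL : CohB1.IsAmple L) (K : X.Modules) (hK : Coh.IsCoh K) :
    ∃ (C A : X.Modules) (_ : PicF.IsInvertible C) (_ : CohB1.tensorMod C A ≅ Coh.structureModule X) (p : ℕ)
      (π : CohB1.tensorMod A (FlatMod.freeMod X p) ⟶ K), Epi π := by
  obtain ⟨n₁, hn₁⟩ := MiscFlat6.eventually_gg_of_isAmple hL K hK
  let C := CohB1.tensorPow L n₁
  have hC : PicF.IsInvertible C := AmpleThLib.tensorPow_isInvertible hL.1 _
  obtain ⟨vC⟩ := MiscFlat6.nonempty_dualIso hC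
  obtain ⟨p, q, hq⟩ := VBResLib.exists_epi_free_of_gg (SerreVanLib.isCoh_tensor hK hC) (hn₁ n₁ le_rfl)
  obtain ⟨π, hπ⟩ := QuotSchLib.exists_epi_untwist (MiscFlat6.dual C) C K
    (VBP1Lib.isEquivalence_tensor (KFlatLib.tensSwap C (MiscFlat6.dual C) ≪≫ vC)) vC p q
  exact ⟨C, _, hC, vC, p, π, hπ⟩

/-- Negative twists of invertible modules eventually have no cohomology in degrees `0` and `1`. -/
def NegVanish (𝓘 : X.IdealSheafData) : Prop :=
  ∀ C : X.Modules, PicF.IsInvertible C → ∃ N : ℕ, ∀ n, N ≤ n → ∀ j : ℕ, j < 2 →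
    Subsingleton (Coh.HH X (CohB1.tensorMod (ClSub.idealMod (𝓘 ^ (n + 1))) C) j)

theorem homToFormalBijective_untwist {𝓘 : X.IdealSheafData} (hv : NegVanish 𝓘) {C A : X.Modules}
    (hC : PicF.IsInvertible C) (vC : CohB1.tensorMod C A ≅ Coh.structureModule X) (p : ℕ) :
    Lef.HomToFormalBijective 𝓘 (CohB1.tensorMod A (FlatMod.freeMod X p)) := by
  haveI : HasExt.{u} X.Modules := inferInstance
  obtain ⟨N, hN⟩ := hv C hC
  exact homToFormalBijective_of_ext N (fun n hn => subsingleton_hom_untwist vC p _ (hN n hn 0 (by omega)))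
    fun n hn => QuotObsLib.subsingleton_ext_untwist vC p _ (hN n hn 1 (by omega))

theorem homToFormalBijective_coh [IsNoetherian X] {𝓘 : X.IdealSheafData} (hv : NegVanish 𝓘) {L : X.Modules}
    (hL : CohB1.IsAmple L) {K : X.Modules} (hK : Coh.IsCoh K) : Lef.HomToFormalBijective 𝓘 K := by
  obtain ⟨C, A, hC, vC, p, π, hπ⟩ := exists_cover hL K hK
  haveI := hπ
  have hV : Coh.IsCoh (CohB1.tensorMod A (FlatMod.freeMod X p)) := by
    have hA : PicF.IsInvertible A :=
      CohCmpLib.isInvertible_of_inverse' hC vC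
    exact QCohLib.isCoh_of_iso (KFlatLib.tensSwap A (FlatMod.freeMod X p)) (SerreVanLib.isCoh_tensor
      ⟨CurvLib.isQCoh_freeMod X p, CurvLib.isFT_freeMod X p⟩ hA)
  obtain ⟨C', A', hC', vC', q, ρ, hρ⟩ := exists_cover hL (kernel π) (QCohLib.isCoh_kernel π hV hK.1)
  haveI := hρ
  exact homToFormalBijective_of_epi (homToFormalBijective_untwist hv hC vC p) π ρ
    (homToFormalBijective_untwist hv hC' vC' q)

/-- The Lefschetz condition from vanishing, when the points off the divisor at infinity have depth two. -/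
theorem lefCond_of_negVanish [IsNoetherian X] {𝓘 : X.IdealSheafData} (hv : NegVanish 𝓘) {L : X.Modules}
    (hL : CohB1.IsAmple L)
    (hd : ∀ U : X.Opens, (𝓘.support : Set X) ⊆ (U : Set X) → ∀ x : X, x ∉ U →
      (2 : ℕ∞) ≤ LocCoh.depth (X.presheaf.stalk x) (X.presheaf.stalk x)) : Lef.LefCond X 𝓘 := by
  intro U hU D hD
  haveI : Coh.IsQCoh (Coh.structureModule X) := (DevissLib.isCoh_structureModule X).1
  have hDc : Coh.IsCoh D := LocSuppLib.isCoh_of_isFinLocFree hD
  haveI := hDc.1
  haveI : IsLocallyNoetherian (U : Scheme.{u}) := inferInstance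
  obtain ⟨D', -, e, hD', -⟩ := LimHomLib.exists_fp_extension U (NoetherianSpace.isCompact _) (Coh.structureModule X) D
    (QCohLib.isFP_of_isCoh D hDc) 0
  haveI := HilbLCLib.isQCoh_of_isFP hD'
  exact homToFormalBijective_restrict U 𝓘 hU (isIso_unitToPush_ι U (hd U hU)) e
    (homToFormalBijective_coh hv hL (ConsLib.isCoh_of_isFP hD'))

theorem negVanish_field (k : Type u) [Field k] [X.Over (Spec (CommRingCat.of k))]
    [IsProper (X ↘ Spec (CommRingCat.of k))] (𝓘 : X.IdealSheafData) {L : X.Modules}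
    (hL : ClSub.IsInverseOf L (ClSub.idealMod 𝓘)) (hamp : CohB1.IsAmple L)
    (hd : ∀ x : X, IsClosed ({x} : Set X) → (2 : ℕ∞) ≤ LocCoh.depth (X.presheaf.stalk x) (X.presheaf.stalk x)) :
    NegVanish 𝓘 := by
  intro C hC
  haveI : IsNoetherian X := CurvLib.isNoetherian k (X := X)
  have hI : BlowUp.IsEffCartierIdeal 𝓘 := IntMultLib.isEffCartier_of_isInvertible 𝓘
    (CohCmpLib.isInvertible_of_inverse' hamp.1 hL.some)
  have hCc : Coh.IsCoh C := CurvLib.isCoh_of_isInvertible hC
  have hdC : ∀ x : X, IsClosed ({x} : Set X) →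
      ((2 : ℕ) : ℕ∞) ≤ LocCoh.depth (X.presheaf.stalk x) (C.presheaf.stalk x) := fun x hx => by
    obtain ⟨e⟩ := AVAmpleLib.nonempty_stalk_structureModule X x
    have h1 : LocCoh.depth (X.presheaf.stalk x) (X.presheaf.stalk x) =
        LocCoh.depth (X.presheaf.stalk x) ((Coh.structureModule X).presheaf.stalk x) := CommAlgDim.depth_congr e
    have h2 := PnDualLib.depth_tensor_invertible hC (Coh.structureModule X) x
    have h3 := QGorBCLib.depth_congr_iso (HilbPolyLib.unitLeft C) x
    rw [← h3, h2, ← h1]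
    exact_mod_cast hd x hx
  obtain ⟨m₀, hm₀⟩ := PnDualLib.exists_vanishing_ample_neg k hamp hL C hCc 2 hdC
  refine ⟨m₀, fun n hn j hj => ?_⟩
  obtain ⟨-, ⟨e⟩⟩ := BlowPtLib.nonempty_idealMod_pow 𝓘 hI (n + 1)
  exact SerreVanLib.subsingleton_HH_of_iso
    (HilbPolyLib.swapIso (ClSub.idealMod (𝓘 ^ (n + 1))) C ≪≫ HilbPolyLib.congrRight C e.symm) j
    (hm₀ (n + 1) (by omega) j hj)

/-- **The Lefschetz condition for an ample divisor over a field, depth two at closed points.** -/
theorem lefCond_field (k : Type u) [Field k] [X.Over (Spec (CommRingCat.of k))]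
    [IsProper (X ↘ Spec (CommRingCat.of k))] (𝓘 : X.IdealSheafData) {L : X.Modules}
    (hL : ClSub.IsInverseOf L (ClSub.idealMod 𝓘)) (hamp : CohB1.IsAmple L)
    (hd : ∀ x : X, IsClosed ({x} : Set X) → (2 : ℕ∞) ≤ LocCoh.depth (X.presheaf.stalk x) (X.presheaf.stalk x)) :
    Lef.LefCond X 𝓘 := by
  haveI : IsNoetherian X := CurvLib.isNoetherian k (X := X)
  refine lefCond_of_negVanish (negVanish_field k 𝓘 hL hamp hd) hamp fun U hU x hx => hd x ?_
  let J := Scheme.IdealSheafData.vanishingIdeal ⟨(U : Set X)ᶜ, U.isOpen.isClosed_compl⟩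
  have hr : Set.range J.subschemeι = (U : Set X)ᶜ := by
    rw [Scheme.IdealSheafData.range_subschemeι, Scheme.IdealSheafData.coe_support_vanishingIdeal]
    rfl
  haveI := LefDisjLib.isFinite_of_disjoint (f := X ↘ Spec (CommRingCat.of k)) 𝓘 hL hamp J.subschemeι
    fun w hw => (hr.le ⟨w, rfl⟩) (hU hw)
  have hclosed : ∀ z : J.subscheme, IsClosed ({z} : Set J.subscheme) := fun z => by
    haveI : DiscreteTopology (J.subscheme) := by
      let g := J.subschemeι ≫ (X ↘ Spec (CommRingCat.of k))
      rw [← isDiscrete_univ_iff, show (Set.univ : Set J.subscheme) = g ⁻¹' {g z} from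
        Set.ext fun w => iff_of_true trivial (Subsingleton.elim (g w) (g z))]
      exact g.isDiscrete_preimage_singleton _
    exact isClosed_discrete _
  obtain ⟨z, rfl⟩ : x ∈ Set.range J.subschemeι := hr.ge hx
  simpa using J.subschemeι.isClosedEmbedding.isClosedMap _ (hclosed z)

end ProjLefLib
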