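import Groth.Agent.ProjLefLib.FlatSys
import Groth.Agent.FCohLib.AlgzIso
import Groth.Agent.CohCmpLib.HomLift

/-!
# The completion of a module as a flat system
-/

set_option autoImplicit false
set_option linter.style.haveILetI false
set_option linter.unusedSectionVars false
set_option backward.isDefEq.respectTransparency false
set_option backward.isDefEq.respectTransparency.types false
set_option maxHeartbeats 1000000

universe u

open CategoryTheory CategoryTheory.Limits AlgebraicGeometry TopologicalSpace Opposite FSch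

noncomputable section

namespace ProjLefLib

theorem cπ_step {Z Z' X : Scheme.{u}} (ι : Z ⟶ Z') (i : Z' ⟶ X) {j : Z ⟶ X} (hc : ι ≫ i = j) (M : X.Modules)
    (e : (Scheme.Modules.pullback ι).obj ((Scheme.Modules.pullback i).obj M) ⟶ (Scheme.Modules.pullback j).obj M)
    (he : e = (FCohLib.pullTri ι i hc).hom.app M) :
    (Scheme.Modules.pullbackPushforwardAdjunction i).unit.app M ≫ ((Scheme.Modules.pushforward i).map
      ((Scheme.Modules.pullbackPushforwardAdjunction ι).unit.app ((Scheme.Modules.pullback i).obj M) ≫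
        (Scheme.Modules.pushforward ι).map e) ≫ (FCohLib.pushTri ι i hc).hom.app _) =
      (Scheme.Modules.pullbackPushforwardAdjunction j).unit.app M := by
  subst he
  have h := FCohLib.unit_tri' ι i hc M (𝟙 ((Scheme.Modules.pullback i).obj M)) ((FCohLib.pullTri ι i hc).hom.app M)
  have e1 : (FCohLib.pullTri ι i hc).inv.app M ≫ (Scheme.Modules.pullback ι).map (𝟙 ((Scheme.Modules.pullback i).obj M)) ≫
      (FCohLib.pullTri ι i hc).hom.app M = 𝟙 ((Scheme.Modules.pullback j).obj M) :=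
    ((congrArg (fun a => (FCohLib.pullTri ι i hc).inv.app M ≫ a ≫ (FCohLib.pullTri ι i hc).hom.app M)
      ((Scheme.Modules.pullback ι).map_id _)).trans (congrArg ((FCohLib.pullTri ι i hc).inv.app M ≫ ·)
        (Category.id_comp _))).trans ((FCohLib.pullTri ι i hc).inv_hom_id_app M)
  rw [e1] at h
  refine (congrArg (· ≫ _) ?_).trans (h.trans ?_)
  · exact ((congrArg (_ ≫ ·) ((Scheme.Modules.pushforward i).map_id _)).trans (Category.comp_id _)).symm
  · exact (congrArg (_ ≫ ·) ((Scheme.Modules.pushforward j).map_id _)).trans (Category.comp_id _)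

variable {X : Scheme.{u}} [IsLocallyNoetherian X] (𝓘 : X.IdealSheafData)

/-- The completion map of a module. -/
abbrev cπ (M : X.Modules) (n : ℕ) : M ⟶ lev 𝓘 (complMod 𝓘 M) n :=
  (Scheme.Modules.pullbackPushforwardAdjunction (completionToX X 𝓘 n)).unit.app M

theorem cπ_gTr (M : X.Modules) (n : ℕ) :
    cπ 𝓘 M (n + 1) ≫ FCohLib.gTr 𝓘 (complMod 𝓘 M) n = cπ 𝓘 M n :=
  cπ_step ((completionAlong X 𝓘).ι n) (completionToX X 𝓘 (n + 1)) (completionToX_comm X 𝓘 n) M
    ((complMod 𝓘 M).e n).hom (FCohLib.complMod_e_hom 𝓘 M n)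

theorem cπ_affine {V : X.affineOpens} {t : Γ(X, V.1)} (hV : 𝓘.ideal V = Ideal.span {t}) (M : X.Modules)
    [Coh.IsQCoh M] (n : ℕ) :
    Function.Surjective ((cπ 𝓘 M n).app V.1) ∧
      ∀ m, (cπ 𝓘 M n).app V.1 m = 0 ↔ ∃ m' : Γ(M, V.1), t ^ (n + 1) • m' = m := by
  let i := completionToX X 𝓘 n
  let U' := i ⁻¹ᵁ V.1
  haveI := FComplLib.isClosedImmersion_completionToX X 𝓘 n
  have hU' : IsAffineOpen U' := V.2.preimage _
  let φ : Γ(X, V.1) →+* Γ((completionAlong X 𝓘).X n, U') := (i.appLE V.1 U' le_rfl).hom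
  letI := φ.toAlgebra
  let P := (Scheme.Modules.pullback i).obj M
  letI : Module Γ(X, V.1) Γ(P, U') := Module.compHom _ φ
  haveI : IsScalarTower Γ(X, V.1) Γ((completionAlong X 𝓘).X n, U') Γ(P, U') :=
    IsScalarTower.of_algebraMap_smul fun _ _ => rfl
  let ψ : Γ(M, V.1) →ₗ[Γ(X, V.1)] Γ(P, U') :=
    { toFun := KFlatLib.puSecLE i M le_rfl
      map_add' := map_add _
      map_smul' := fun r m => KFlatLib.puSecLE_smul i M le_rfl r m }
  have hφe : ∀ r, φ r = i.app V.1 r := fun r => by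
    show (i.appLE V.1 U' le_rfl) r = _
    rw [← Scheme.Hom.appLE_eq_app]
  have hsurj : Function.Surjective φ := fun y => by
    obtain ⟨r, rfl⟩ := Scheme.Hom.app_surjective i _ V.2 y
    exact ⟨r, hφe r⟩
  obtain ⟨hs, hk⟩ := FCohLib.mem_ker_iff_of_isBaseChange ψ
    (KFlatLib.isBaseChange_puSec i M V.2 hU' le_rfl (fun _ => rfl) ψ (fun _ => rfl)) hsurj
  have happ : ∀ m, (cπ 𝓘 M n).app V.1 m = ψ m := fun m => by
    refine Eq.trans ?_ (KFlatLib.puSecLE_apply i M le_rfl m).symm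
    exact (congr($(P.presheaf.map_id (op U')) _)).symm
  refine ⟨fun y => ?_, fun m => ?_⟩
  · obtain ⟨m, hm⟩ := hs y
    exact ⟨m, (happ m).trans hm⟩
  · rw [happ]
    refine (hk m).trans ?_
    have hker : RingHom.ker (algebraMap Γ(X, V.1) Γ((completionAlong X 𝓘).X n, U')) = Ideal.span {t ^ (n + 1)} := by
      ext r
      rw [RingHom.mem_ker, Ideal.mem_span_singleton]
      exact ((Eq.congr_left (hφe r)).trans (level_app_eq_zero_iff hV n r))
    rw [hker, Submodule.ideal_span_singleton_smul, Submodule.mem_smul_pointwise_iff_exists]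
    exact ⟨fun ⟨b, _, hb⟩ => ⟨b, hb⟩, fun ⟨b, hb⟩ => ⟨b, trivial, hb⟩⟩

/-- The flat system of the completion of a finite locally free module. -/
def complSys {M : X.Modules} (hM : FlatMod.IsFinLocFree M) : FSys 𝓘 :=
  levSys 𝓘 (complMod 𝓘 M) fun n => CohCmpLib.isFinLocFree_pb (g := completionToX X 𝓘 n) hM

theorem exists_desc (hI : BlowUp.IsEffCartierIdeal 𝓘) {M : X.Modules} [Coh.IsQCoh M] (n : ℕ)
    {Q : X.Modules} [Coh.IsQCoh Q] (hP : Coh.IsQCoh (lev 𝓘 (complMod 𝓘 M) n))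
    (hQ : ∀ (V : X.affineOpens) (t : Γ(X, V.1)), 𝓘.ideal V = Ideal.span {t} → ∀ q : Γ(Q, V.1), t ^ (n + 1) • q = 0)
    (g : M ⟶ Q) : ∃ a : lev 𝓘 (complMod 𝓘 M) n ⟶ Q, cπ 𝓘 M n ≫ a = g := by
  haveI := hP
  haveI : Epi (cπ 𝓘 M n) := HilbObsLib.epi_of_app_surjective _ fun x => by
    obtain ⟨V, t, hx, -, hV⟩ := exists_chart 𝓘 hI x
    exact ⟨V.1, V.2, hx, (cπ_affine 𝓘 hV M n).1⟩
  haveI : Coh.IsQCoh (kernel (cπ 𝓘 M n)) := QCohLib.isQCoh_kernel _
  refine ⟨Abelian.epiDesc (cπ 𝓘 M n) g (HilbObsLib.eq_zero_of_app _ fun x => ?_), Abelian.comp_epiDesc _ _ _⟩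
  obtain ⟨V, t, hx, -, hV⟩ := exists_chart 𝓘 hI x
  refine ⟨V.1, V.2, hx, fun z => ?_⟩
  obtain ⟨m', hm'⟩ := ((cπ_affine 𝓘 hV M n).2 _).1
    (congr(Scheme.Modules.Hom.app $(kernel.condition (cπ 𝓘 M n)) V.1 z))
  show g.app V.1 ((kernel.ι (cπ 𝓘 M n)).app V.1 z) = 0
  refine (congrArg (g.app V.1) hm'.symm).trans ?_
  rw [QCohLib.app_smul]
  exact hQ V t hV _

/-- **Compatible maps out of a module are maps of systems out of its completion.** -/
theorem exists_sysMap (hI : BlowUp.IsEffCartierIdeal 𝓘) {M : X.Modules} (hM : FlatMod.IsFinLocFree M)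
    (G : FSys 𝓘) (g : ∀ n, M ⟶ G.F n) (hg : ∀ n, g (n + 1) ≫ G.tr n = g n) :
    ∃ α : FSys.Map (complSys 𝓘 hM) G, ∀ n, cπ 𝓘 M n ≫ α.app n = g n := by
  haveI : Coh.IsQCoh M := (LocSuppLib.isCoh_of_isFinLocFree hM).1
  haveI : ∀ n, Coh.IsQCoh (lev 𝓘 (complMod 𝓘 M) n) := fun n => ((complSys 𝓘 hM).coh n).1
  haveI : ∀ n, Coh.IsQCoh (G.F n) := fun n => (G.coh n).1
  choose a ha using fun n => exists_desc 𝓘 hI (M := M) n (((complSys 𝓘 hM).coh n).1)
    (fun V t hV q => G.kill V t hV n q) (g n)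
  haveI : ∀ n, Epi (cπ 𝓘 M n) := fun n => HilbObsLib.epi_of_app_surjective _ fun x => by
    obtain ⟨V, t, hx, -, hV⟩ := exists_chart 𝓘 hI x
    exact ⟨V.1, V.2, hx, (cπ_affine 𝓘 hV M n).1⟩
  refine ⟨⟨a, fun n => (cancel_epi (cπ 𝓘 M (n + 1))).1 ?_⟩, ha⟩
  rw [← Category.assoc, ha, hg]
  refine Eq.trans ?_ (Category.assoc _ _ _)
  exact ((congrArg (· ≫ a n) (cπ_gTr 𝓘 M n)).trans (ha n)).symm

end ProjLefLib
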