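import Groth.Agent.ProjLefLib.Seq

/-!
# Flat systems along an effective Cartier divisor
-/

set_option autoImplicit false
set_option linter.style.haveILetI false
set_option linter.unusedSectionVars false
set_option backward.isDefEq.respectTransparency false
set_option backward.isDefEq.respectTransparency.types false
set_option maxHeartbeats 1000000

universe u

open CategoryTheory CategoryTheory.Limits AlgebraicGeometry TopologicalSpace Opposite FSch

noncomputable section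

namespace ProjLefLib

variable {X : Scheme.{u}} [IsLocallyNoetherian X] (𝓘 : X.IdealSheafData)

/-- An inverse system of coherent modules which is flat over the thickenings of the divisor. -/
structure FSys where
  F : ℕ → X.Modules
  tr : ∀ n, F (n + 1) ⟶ F n
  coh : ∀ n, Coh.IsCoh (F n)
  kill : ∀ (V : X.affineOpens) (t : Γ(X, V.1)), 𝓘.ideal V = Ideal.span {t} → ∀ (n : ℕ) (m : Γ(F n, V.1)),
    t ^ (n + 1) • m = 0
  surj : ∀ (V : X.affineOpens) (t : Γ(X, V.1)), 𝓘.ideal V = Ideal.span {t} → t ∈ nonZeroDivisors Γ(X, V.1) → ∀ n,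
    Function.Surjective ((tr n).app V.1)
  ker : ∀ (V : X.affineOpens) (t : Γ(X, V.1)), 𝓘.ideal V = Ideal.span {t} → t ∈ nonZeroDivisors Γ(X, V.1) →
    ∀ (n : ℕ) (m : Γ(F (n + 1), V.1)),
    (tr n).app V.1 m = 0 → ∃ m' : Γ(F (n + 1), V.1), t ^ (n + 1) • m' = m
  tor : ∀ (V : X.affineOpens) (t : Γ(X, V.1)), 𝓘.ideal V = Ideal.span {t} → t ∈ nonZeroDivisors Γ(X, V.1) →
    ∀ (n : ℕ) (m : Γ(F (n + 1), V.1)), t • m = 0 → ∃ m' : Γ(F (n + 1), V.1), t ^ (n + 1) • m' = m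
  torPow : ∀ (V : X.affineOpens) (t : Γ(X, V.1)), 𝓘.ideal V = Ideal.span {t} → t ∈ nonZeroDivisors Γ(X, V.1) →
    ∀ (n : ℕ) (m : Γ(F (n + 1), V.1)), t ^ (n + 1) • m = 0 → ∃ m' : Γ(F (n + 1), V.1), t • m' = m

/-- The direct images of the levels of a locally free system. -/
def levSys (𝔐 : ModSys (completionAlong X 𝓘)) (hF : LefX.LevelwiseFinLocFree 𝔐) : FSys 𝓘 where
  F := lev 𝓘 𝔐
  tr := FCohLib.gTr 𝓘 𝔐
  coh k := by
    haveI := FComplLib.isClosedImmersion_completionToX X 𝓘 k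
    haveI : IsLocallyNoetherian ((completionAlong X 𝓘).X k) :=
      LocallyOfFiniteType.isLocallyNoetherian (completionToX X 𝓘 k)
    exact VBResLib.isCoh_push_of_isClosedImmersion _ (LocSuppLib.isCoh_of_isFinLocFree (hF k))
  kill _ _ hV n m := pow_smul_level hV n m
  surj _ _ hV _ n := (gTr_affine (𝔐 := 𝔐) hV (fun k => (LocSuppLib.isCoh_of_isFinLocFree (hF k)).1) n).1
  ker _ _ hV _ n m := ((gTr_affine (𝔐 := 𝔐) hV (fun k => (LocSuppLib.isCoh_of_isFinLocFree (hF k)).1) n).2 m).1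
  tor _ _ hV ht n _ := exists_of_smul_eq_zero hV ht hF n
  torPow _ _ hV ht n _ := exists_of_pow_smul_eq_zero hV ht hF n

variable {𝓘} (G : FSys 𝓘)

theorem FSys.tr_smul {V : X.affineOpens} {t : Γ(X, V.1)} (hV : 𝓘.ideal V = Ideal.span {t}) (n : ℕ)
    (m : Γ(G.F (n + 1), V.1)) : (G.tr n).app V.1 (t ^ (n + 1) • m) = 0 := by
  rw [QCohLib.app_smul]
  exact G.kill V t hV n _

/-- The system as a functor. -/
def FSys.fun : ℕᵒᵖ ⥤ X.Modules := Functor.ofOpSequence (X := G.F) G.tr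

/-- The transition between two levels. -/
def FSys.tle {a b : ℕ} (h : a ≤ b) : G.F b ⟶ G.F a := G.fun.map (homOfLE h).op

theorem FSys.tle_refl (a : ℕ) : G.tle (le_refl a) = 𝟙 _ := G.fun.map_id (op a)

theorem FSys.tle_succ (a : ℕ) : G.tle (Nat.le_succ a) = G.tr a := Functor.ofOpSequence_map_homOfLE_succ _ _

theorem FSys.tle_trans {a b c : ℕ} (h : a ≤ b) (h' : b ≤ c) : G.tle h' ≫ G.tle h = G.tle (h.trans h') :=
  (G.fun.map_comp (homOfLE h').op (homOfLE h).op).symm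

theorem FSys.bot_succ (k : ℕ) : G.tle (Nat.zero_le (k + 1)) = G.tr k ≫ G.tle (Nat.zero_le k) := by
  rw [← G.tle_succ, G.tle_trans]

theorem FSys.bot_affine {V : X.affineOpens} {t : Γ(X, V.1)} (hV : 𝓘.ideal V = Ideal.span {t})
    (ht : t ∈ nonZeroDivisors Γ(X, V.1)) : ∀ k : ℕ,
    Function.Surjective ((G.tle (Nat.zero_le k)).app V.1) ∧
      ∀ m, (G.tle (Nat.zero_le k)).app V.1 m = 0 ↔ ∃ m' : Γ(G.F k, V.1), t • m' = m
  | 0 => by
    rw [G.tle_refl]
    refine ⟨fun y => ⟨y, rfl⟩, fun m => ⟨fun h => ⟨0, (smul_zero _).trans (show (0 : Γ(G.F 0, V.1)) = m from h.symm)⟩,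
      fun ⟨m', hm'⟩ => ?_⟩⟩
    show m = 0
    rw [← hm', ← pow_one t, ← zero_add 1, G.kill V t hV]
  | k + 1 => by
    obtain ⟨hs, hk⟩ := bot_affine hV ht k
    rw [G.bot_succ]
    refine ⟨hs.comp (G.surj V t hV ht k), fun m => ⟨fun h => ?_, fun ⟨m', hm'⟩ => ?_⟩⟩
    · obtain ⟨a, ha⟩ := (hk _).1 h
      obtain ⟨b, rfl⟩ := G.surj V t hV ht k a
      obtain ⟨c, hc⟩ := G.ker V t hV ht k (m - t • b) (by
        rw [map_sub]
        exact sub_eq_zero.2 (ha.symm.trans (QCohLib.app_smul _ _ _ _).symm))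
      refine ⟨b + t ^ k • c, ?_⟩
      rw [smul_add, smul_smul, ← pow_succ', hc, add_sub_cancel]
    · show (G.tle (Nat.zero_le k)).app V.1 ((G.tr k).app V.1 m) = 0
      exact (hk _).2 ⟨_, by rw [← hm', QCohLib.app_smul]⟩

/-- The sequence `0 → Fₖ ⊗ I → Fₖ₊₁ → F₀ → 0`. -/
theorem FSys.exists_sesB (hI : BlowUp.IsEffCartierIdeal 𝓘) (k : ℕ) :
    ∃ (τ : (tI 𝓘).obj (G.F k) ⟶ G.F (k + 1)) (w : τ ≫ G.tle (Nat.zero_le (k + 1)) = 0),
      (ShortComplex.mk τ (G.tle (Nat.zero_le (k + 1))) w).ShortExact := by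
  refine exists_ses 𝓘 hI (G.coh _) (G.coh _) (G.coh _) (G.tr k) _ fun x => ?_
  obtain ⟨V, t, hx, ht, hV⟩ := exists_chart 𝓘 hI x
  obtain ⟨hs, hk⟩ := G.bot_affine hV ht (k + 1)
  refine ⟨V, t, hx, ht, hV, G.surj V t hV ht k, hs, fun m => ⟨fun h => ?_, fun h => ?_⟩, hk⟩
  · obtain ⟨m', rfl⟩ := G.ker V t hV ht k m h
    rw [smul_smul, ← pow_succ', G.kill V t hV]
  · obtain ⟨m', rfl⟩ := G.tor V t hV ht k m h
    exact G.tr_smul hV k m'

/-- The sequence `0 → F₀ ⊗ Iᵏ⁺¹ → Fₖ₊₁ → Fₖ → 0`. -/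
theorem FSys.exists_sesA (hI : BlowUp.IsEffCartierIdeal 𝓘) (k : ℕ) :
    ∃ (τ : (tI (𝓘 ^ (k + 1))).obj (G.F 0) ⟶ G.F (k + 1)) (w : τ ≫ G.tr k = 0),
      (ShortComplex.mk τ (G.tr k) w).ShortExact := by
  refine exists_ses (𝓘 ^ (k + 1)) (BlowPtLib.nonempty_idealMod_pow 𝓘 hI (k + 1)).1 (G.coh _) (G.coh _) (G.coh _)
    (G.tle (Nat.zero_le (k + 1))) _ fun x => ?_
  obtain ⟨V, t, hx, ht, hV⟩ := exists_chart 𝓘 hI x
  obtain ⟨hs, hk⟩ := G.bot_affine hV ht (k + 1)
  refine ⟨V, t ^ (k + 1), hx, pow_mem ht _,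
    by rw [Scheme.IdealSheafData.ideal_pow, Pi.pow_apply, hV, Ideal.span_singleton_pow],
    hs, G.surj V t hV ht k, fun m => ⟨fun h => ?_, fun h => (hk m).2 (G.torPow V t hV ht k m h)⟩,
    fun m => ⟨G.ker V t hV ht k m, fun ⟨m', hm'⟩ => hm' ▸ G.tr_smul hV k m'⟩⟩
  obtain ⟨m', rfl⟩ := (hk m).1 h
  rw [smul_smul, ← pow_succ, G.kill V t hV]

/-- A map of flat systems. -/
structure FSys.Map (G H : FSys 𝓘) where
  app : ∀ n, G.F n ⟶ H.F n
  comm : ∀ n, app (n + 1) ≫ H.tr n = G.tr n ≫ app n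

theorem FSys.Map.comm_app {G H : FSys 𝓘} (α : FSys.Map G H) (n : ℕ) (U : X.Opens) (m : Γ(G.F (n + 1), U)) :
    (H.tr n).app U ((α.app (n + 1)).app U m) = (α.app n).app U ((G.tr n).app U m) :=
  congr(Scheme.Modules.Hom.app $(α.comm n) U m)

/-- The kernel of a levelwise surjection is flat. -/
def FSys.kernelSys {G H : FSys 𝓘} (α : FSys.Map G H)
    (hα : ∀ (V : X.affineOpens) (t : Γ(X, V.1)), 𝓘.ideal V = Ideal.span {t} → t ∈ nonZeroDivisors Γ(X, V.1) →
      ∀ n, Function.Surjective ((α.app n).app V.1)) :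
    FSys 𝓘 where
  F n := kernel (α.app n)
  tr n := kernel.lift (α.app n) (kernel.ι _ ≫ G.tr n)
    (by rw [Category.assoc, ← α.comm n, ← Category.assoc, kernel.condition, zero_comp])
  coh n := QCohLib.isCoh_kernel _ (G.coh n) (H.coh n).1
  kill V t hV n m := QCohLib.app_injective_of_mono (kernel.ι (α.app n)) V.1 (by
    rw [QCohLib.app_smul, G.kill V t hV, map_zero])
  surj V t hV ht n y := by
    haveI := (G.coh (n + 1)).1
    haveI := (H.coh (n + 1)).1
    haveI : Coh.IsQCoh (kernel (α.app (n + 1))) := QCohLib.isQCoh_kernel _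
    obtain ⟨x, hx⟩ := G.surj V t hV ht n ((kernel.ι (α.app n)).app V.1 y)
    obtain ⟨c, hc⟩ := H.ker V t hV ht n ((α.app (n + 1)).app V.1 x) (by
      rw [α.comm_app, hx]
      exact congr(Scheme.Modules.Hom.app $(kernel.condition (α.app n)) V.1 y))
    obtain ⟨z, rfl⟩ := hα V t hV ht (n + 1) c
    obtain ⟨k, hk⟩ := QCohLib.exists_of_app_eq_zero
      (S := ShortComplex.mk (kernel.ι (α.app (n + 1))) (α.app (n + 1)) (kernel.condition _))
      (ShortComplex.exact_of_f_is_kernel _ (kernelIsKernel _)) (inferInstanceAs (Mono (kernel.ι (α.app (n + 1)))))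
      (x - t ^ (n + 1) • z) (show (α.app (n + 1)).app V.1 _ = 0 by rw [map_sub, QCohLib.app_smul, hc, sub_self])
    refine ⟨k, QCohLib.app_injective_of_mono (kernel.ι (α.app n)) V.1 ?_⟩
    refine (congr(Scheme.Modules.Hom.app $(kernel.lift_ι (α.app n) _ _) V.1 k)).trans ?_
    show (G.tr n).app V.1 ((kernel.ι (α.app (n + 1))).app V.1 k) = _
    rw [show (kernel.ι (α.app (n + 1))).app V.1 k = _ from hk, map_sub, G.tr_smul hV, sub_zero, hx]
  ker V t hV ht n m hm := by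
    haveI := (G.coh (n + 1)).1
    haveI := (H.coh (n + 1)).1
    haveI : Coh.IsQCoh (kernel (α.app (n + 1))) := QCohLib.isQCoh_kernel _
    have h0 : (G.tr n).app V.1 ((kernel.ι (α.app (n + 1))).app V.1 m) = 0 :=
      ((congr(Scheme.Modules.Hom.app $(kernel.lift_ι (α.app n) (kernel.ι (α.app (n + 1)) ≫ G.tr n)
        (by rw [Category.assoc, ← α.comm n, ← Category.assoc, kernel.condition, zero_comp])) V.1 m)).symm).trans
        ((congrArg ((kernel.ι (α.app n)).app V.1) hm).trans (map_zero _))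
    obtain ⟨y, hy⟩ := G.ker V t hV ht n _ h0
    obtain ⟨c, hc⟩ := H.torPow V t hV ht n ((α.app (n + 1)).app V.1 y) (by
      rw [← QCohLib.app_smul, hy]
      exact congr(Scheme.Modules.Hom.app $(kernel.condition (α.app (n + 1))) V.1 m))
    obtain ⟨z, rfl⟩ := hα V t hV ht (n + 1) c
    obtain ⟨k, hk⟩ := QCohLib.exists_of_app_eq_zero
      (S := ShortComplex.mk (kernel.ι (α.app (n + 1))) (α.app (n + 1)) (kernel.condition _))
      (ShortComplex.exact_of_f_is_kernel _ (kernelIsKernel _)) (inferInstanceAs (Mono (kernel.ι (α.app (n + 1)))))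
      (y - t • z) (show (α.app (n + 1)).app V.1 _ = 0 by rw [map_sub, QCohLib.app_smul, hc, sub_self])
    refine ⟨k, QCohLib.app_injective_of_mono (kernel.ι (α.app (n + 1))) V.1 ?_⟩
    rw [QCohLib.app_smul, show (kernel.ι (α.app (n + 1))).app V.1 k = _ from hk, smul_sub, smul_smul, ← pow_succ,
      G.kill V t hV, sub_zero, hy]
  tor V t hV ht n m hm := by
    haveI := (G.coh (n + 1)).1
    haveI := (H.coh (n + 1)).1
    haveI : Coh.IsQCoh (kernel (α.app (n + 1))) := QCohLib.isQCoh_kernel _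
    obtain ⟨y, hy⟩ := G.tor V t hV ht n ((kernel.ι (α.app (n + 1))).app V.1 m) (by
      rw [← QCohLib.app_smul, hm, map_zero])
    obtain ⟨c, hc⟩ := H.torPow V t hV ht n ((α.app (n + 1)).app V.1 y) (by
      rw [← QCohLib.app_smul, hy]
      exact congr(Scheme.Modules.Hom.app $(kernel.condition (α.app (n + 1))) V.1 m))
    obtain ⟨z, rfl⟩ := hα V t hV ht (n + 1) c
    obtain ⟨k, hk⟩ := QCohLib.exists_of_app_eq_zero
      (S := ShortComplex.mk (kernel.ι (α.app (n + 1))) (α.app (n + 1)) (kernel.condition _))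
      (ShortComplex.exact_of_f_is_kernel _ (kernelIsKernel _)) (inferInstanceAs (Mono (kernel.ι (α.app (n + 1)))))
      (y - t • z) (show (α.app (n + 1)).app V.1 _ = 0 by rw [map_sub, QCohLib.app_smul, hc, sub_self])
    refine ⟨k, QCohLib.app_injective_of_mono (kernel.ι (α.app (n + 1))) V.1 ?_⟩
    rw [QCohLib.app_smul, show (kernel.ι (α.app (n + 1))).app V.1 k = _ from hk, smul_sub, smul_smul, ← pow_succ,
      G.kill V t hV, sub_zero, hy]
  torPow V t hV ht n m hm := by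
    haveI := (G.coh (n + 1)).1
    haveI := (H.coh (n + 1)).1
    haveI : Coh.IsQCoh (kernel (α.app (n + 1))) := QCohLib.isQCoh_kernel _
    obtain ⟨y, hy⟩ := G.torPow V t hV ht n ((kernel.ι (α.app (n + 1))).app V.1 m) (by
      rw [← QCohLib.app_smul, hm, map_zero])
    obtain ⟨c, hc⟩ := H.tor V t hV ht n ((α.app (n + 1)).app V.1 y) (by
      rw [← QCohLib.app_smul, hy]
      exact congr(Scheme.Modules.Hom.app $(kernel.condition (α.app (n + 1))) V.1 m))
    obtain ⟨z, rfl⟩ := hα V t hV ht (n + 1) c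
    obtain ⟨k, hk⟩ := QCohLib.exists_of_app_eq_zero
      (S := ShortComplex.mk (kernel.ι (α.app (n + 1))) (α.app (n + 1)) (kernel.condition _))
      (ShortComplex.exact_of_f_is_kernel _ (kernelIsKernel _)) (inferInstanceAs (Mono (kernel.ι (α.app (n + 1)))))
      (y - t ^ (n + 1) • z) (show (α.app (n + 1)).app V.1 _ = 0 by rw [map_sub, QCohLib.app_smul, hc, sub_self])
    refine ⟨k, QCohLib.app_injective_of_mono (kernel.ι (α.app (n + 1))) V.1 ?_⟩
    rw [QCohLib.app_smul, show (kernel.ι (α.app (n + 1))).app V.1 k = _ from hk, smul_sub, smul_smul, ← pow_succ',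
      G.kill V t hV, sub_zero, hy]

/-- **Nakayama:** a map of systems which is surjective at the bottom is surjective. -/
theorem FSys.Map.surjective {G H : FSys 𝓘} (α : FSys.Map G H) {V : X.affineOpens} {t : Γ(X, V.1)}
    (hV : 𝓘.ideal V = Ideal.span {t}) (ht : t ∈ nonZeroDivisors Γ(X, V.1))
    (h0 : Function.Surjective ((α.app 0).app V.1)) : ∀ n, Function.Surjective ((α.app n).app V.1)
  | 0 => h0
  | n + 1 => fun y => by
    obtain ⟨b, hb⟩ := FSys.Map.surjective α hV ht h0 n ((H.tr n).app V.1 y)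
    obtain ⟨a, rfl⟩ := G.surj V t hV ht n b
    obtain ⟨c, hc⟩ := H.ker V t hV ht n (y - (α.app (n + 1)).app V.1 a) (by
      rw [map_sub, α.comm_app, hb, sub_self])
    obtain ⟨b', hb'⟩ := FSys.Map.surjective α hV ht h0 n ((H.tr n).app V.1 c)
    obtain ⟨a', rfl⟩ := G.surj V t hV ht n b'
    obtain ⟨d, hd⟩ := H.ker V t hV ht n (c - (α.app (n + 1)).app V.1 a') (by
      rw [map_sub, α.comm_app, hb', sub_self])
    refine ⟨a + t ^ (n + 1) • a', ?_⟩
    rw [map_add, QCohLib.app_smul]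
    have h1 : t ^ (n + 1) • (c - (α.app (n + 1)).app V.1 a') = 0 := by
      rw [← hd, smul_smul, ← pow_add, show n + 1 + (n + 1) = n + (n + 1 + 1) by omega, pow_add, mul_smul,
        H.kill V t hV, smul_zero]
    rw [smul_sub, sub_eq_zero] at h1
    rw [← h1, hc, add_sub_cancel]

end ProjLefLib
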