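import Groth.Agent.ProjLefLib.Present
import Groth.Agent.ProjLefLib.Compl
import Groth.Agent.ProjLefLib.Cover
import Groth.Agent.QuotObsLib.ExtFin
import Groth.Agent.LeffPicLib.Surj
import Groth.Agent.VBResLib.KFunct

/-!
# Formal maps between untwisted free modules are algebraic
-/

set_option autoImplicit false
set_option linter.style.haveILetI false
set_option linter.unusedSectionVars false
set_option backward.isDefEq.respectTransparency false
set_option backward.isDefEq.respectTransparency.types false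
set_option maxHeartbeats 1000000

universe u

open CategoryTheory CategoryTheory.Limits CategoryTheory.Abelian AlgebraicGeometry TopologicalSpace Opposite FSch

noncomputable section

namespace ProjLefLib

variable {X : Scheme.{u}} [IsLocallyNoetherian X] (𝓘 : X.IdealSheafData)

/-- The multiples of a local equation are the kernel of the completion map. -/
theorem exists_cπ_ses (hI : BlowUp.IsEffCartierIdeal 𝓘) {M : X.Modules} (hM : FlatMod.IsFinLocFree M) (n : ℕ) :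
    ∃ (τ : (tI (𝓘 ^ (n + 1))).obj M ⟶ M) (w : τ ≫ cπ 𝓘 M n = 0),
      (ShortComplex.mk τ (cπ 𝓘 M n) w).ShortExact := by
  have hMc : Coh.IsCoh M := LocSuppLib.isCoh_of_isFinLocFree hM
  haveI := hMc.1
  refine exists_ses (𝓘 ^ (n + 1)) (BlowPtLib.nonempty_idealMod_pow 𝓘 hI (n + 1)).1 hMc hMc
    ((complSys 𝓘 hM).coh n) (𝟙 M) _ fun x => ?_
  obtain ⟨V, t, hx, ht, hV⟩ := exists_chart 𝓘 hI x
  obtain ⟨hs, hk⟩ := cπ_affine 𝓘 hV M n
  refine ⟨V, t ^ (n + 1), hx, pow_mem ht _,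
    by rw [Scheme.IdealSheafData.ideal_pow, Pi.pow_apply, hV, Ideal.span_singleton_pow],
    fun y => ⟨y, rfl⟩, hs, fun m => ⟨fun h => ?_, fun h => ?_⟩, hk⟩
  · rw [show m = 0 from h, smul_zero]
  · haveI : Module.Flat Γ(X, V.1) Γ(M, V.1) := CohBCLib.flat_sections_of_isFinLocFree M hM V.2
    obtain ⟨m', hm'⟩ := exists_smul_eq_of_flat (a := t ^ (n + 1)) (b := 0) (mul_zero _) (fun r hr => ⟨0, by
      rw [zero_mul]
      exact mem_nonZeroDivisors_iff_right.1 (pow_mem ht (n + 1)) r (by rw [mul_comm, hr])⟩) h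
    show m = 0
    rw [← hm', zero_smul]

/-- Negative twists of finite locally free modules eventually have no cohomology in degrees `0` and `1`. -/
def VanAll : Prop := ∀ M : X.Modules, FlatMod.IsFinLocFree M → Van 𝓘 M

variable {𝓘}

/-- An untwisted free module. -/
theorem isFinLocFree_untwist {A' : X.Modules} (hA : PicF.IsInvertible A') (p : ℕ) :
    FlatMod.IsFinLocFree (CohB1.tensorMod A' (FlatMod.freeMod X p)) :=
  VBResLib.vb_tensor _ (LeffPicLib.isFinLocFree_of_invertible hA) (VBResLib.vb_of_rank (VBResLib.rank_freeMod p))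

/-- **A formal map out of the completion of an untwisted free module is the completion of a map.** -/
theorem exists_algebraic [HasExt.{u} X.Modules] (hI : BlowUp.IsEffCartierIdeal 𝓘) (hv : VanAll 𝓘)
    {C A' : X.Modules} (hC : PicF.IsInvertible C) (vC : CohB1.tensorMod C A' ≅ Coh.structureModule X) (p : ℕ)
    {V : X.Modules} (hV : FlatMod.IsFinLocFree V)
    (y : ∀ n, CohB1.tensorMod A' (FlatMod.freeMod X p) ⟶ lev 𝓘 (complMod 𝓘 V) n)
    (hy : ∀ n, y (n + 1) ≫ FCohLib.gTr 𝓘 (complMod 𝓘 V) n = y n) :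
    ∃ φ : CohB1.tensorMod A' (FlatMod.freeMod X p) ⟶ V, ∀ n, φ ≫ cπ 𝓘 V n = y n := by
  let W := CohB1.tensorMod A' (FlatMod.freeMod X p)
  have hVC : FlatMod.IsFinLocFree (CohB1.tensorMod V C) :=
    VBResLib.vb_tensor _ hV (LeffPicLib.isFinLocFree_of_invertible hC)
  obtain ⟨N, hN⟩ := hv _ hVC
  choose τ w hτ using fun n => exists_cπ_ses 𝓘 hI hV n
  have hH : ∀ n, N ≤ n → ∀ j < 2, Subsingleton (Coh.HH X (CohB1.tensorMod ((tI (𝓘 ^ (n + 1))).obj V) C) j) :=
    fun n hn j hj => SerreVanLib.subsingleton_HH_of_iso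
      (HilbPolyLib.assocIso V (ClSub.idealMod (𝓘 ^ (n + 1))) C ≪≫
        HilbPolyLib.congrRight V (HilbPolyLib.swapIso _ _) ≪≫ (HilbPolyLib.assocIso _ _ _).symm) j
      (hN (n + 1) (by omega) j hj)
  have hinj : ∀ n, N ≤ n → ∀ φ ψ : W ⟶ V, φ ≫ cπ 𝓘 V n = ψ ≫ cπ 𝓘 V n → φ = ψ := fun n hn φ ψ h => by
    obtain ⟨χ, hχ⟩ := Ext.covariant_sequence_exact₂ W (hτ n) (Ext.mk₀ (φ - ψ))
      (by rw [Ext.mk₀_comp_mk₀, Preadditive.sub_comp, h, sub_self, Ext.mk₀_zero])
    obtain ⟨χ, rfl⟩ := (Ext.mk₀_bijective _ _).2 χ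
    rw [Ext.mk₀_comp_mk₀, (subsingleton_hom_untwist vC p _ (hH n hn 0 (by omega))).elim χ 0, zero_comp] at hχ
    exact sub_eq_zero.1 ((Ext.mk₀_bijective _ _).1 hχ).symm
  have hlift : ∀ n, N ≤ n → ∃ φ : W ⟶ V, φ ≫ cπ 𝓘 V n = y n := fun n hn => by
    obtain ⟨x, hx⟩ := Ext.covariant_sequence_exact₃ W (hτ n) (Ext.mk₀ (y n)) (zero_add 1)
      ((QuotObsLib.subsingleton_ext_untwist vC p _ (hH n hn 1 (by omega))).elim _ _)
    obtain ⟨g, rfl⟩ := (Ext.mk₀_bijective _ _).2 x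
    rw [Ext.mk₀_comp_mk₀] at hx
    exact ⟨g, (Ext.mk₀_bijective _ _).1 hx⟩
  have hdown : ∀ {a b : ℕ}, a ≤ b → ∀ φ : W ⟶ V, φ ≫ cπ 𝓘 V b = y b → φ ≫ cπ 𝓘 V a = y a := by
    intro a b h
    induction b, h using Nat.le_induction with
    | base => exact fun _ h => h
    | succ b hb ih =>
      intro φ hφ
      refine ih φ ?_
      rw [← cπ_gTr, ← Category.assoc, hφ, hy]
  obtain ⟨φ, hφ⟩ := hlift N le_rfl
  refine ⟨φ, fun n => ?_⟩
  obtain ⟨ψ, hψ⟩ := hlift (max n N) (le_max_right _ _)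
  rw [hinj N le_rfl φ ψ (hφ.trans (hdown (le_max_right n N) ψ hψ).symm)]
  exact hdown (le_max_left n N) ψ hψ

end ProjLefLib
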