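import Groth.Agent.ProjLefLib.FlatSys
import Groth.Agent.FormalLib.Main
import Groth.Agent.CohCmpLib.HC
import Groth.Agent.HilbPolyLib.Twist
import Groth.Agent.SerreVanLib.Main

/-!
# Sections of the high twists of a flat system lift to all levels
-/

set_option autoImplicit false
set_option linter.style.haveILetI false
set_option linter.unusedSectionVars false
set_option backward.isDefEq.respectTransparency false
set_option backward.isDefEq.respectTransparency.types false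
set_option maxHeartbeats 1000000

universe u

open CategoryTheory CategoryTheory.Limits AlgebraicGeometry TopologicalSpace Opposite

noncomputable section

namespace ProjLefLib

/-- A chain of surjections of finite modules over a Noetherian ring is eventually injective. -/
theorem eventually_injective {A : Type u} [CommRing A] [IsNoetherianRing A] (M : ℕ → Type u)
    [∀ n, AddCommGroup (M n)] [∀ n, Module A (M n)] [Module.Finite A (M 0)] (f : ∀ n, M n →ₗ[A] M (n + 1))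
    (hf : ∀ n, Function.Surjective (f n)) : ∃ N, ∀ n, N ≤ n → Function.Injective (f n) := by
  haveI : IsNoetherian A (M 0) := isNoetherian_of_isNoetherianRing_of_finite A (M 0)
  let g : ∀ n, M 0 →ₗ[A] M n := fun n => Nat.rec LinearMap.id (fun k h => (f k).comp h) n
  have hg : ∀ n, Function.Surjective (g n) := fun n => by
    induction n with
    | zero => exact fun x => ⟨x, rfl⟩
    | succ n ih => exact (hf n).comp ih
  have hmono : Monotone fun n => LinearMap.ker (g n) := monotone_nat_of_le_succ fun n x hx => by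
    show f n (g n x) = 0
    rw [show g n x = 0 from hx, map_zero]
  obtain ⟨N, hN⟩ := monotone_stabilizes_iff_noetherian.2 ‹_› ⟨_, hmono⟩
  refine ⟨N, fun n hn => (injective_iff_map_eq_zero _).2 fun x hx => ?_⟩
  obtain ⟨y, rfl⟩ := hg n x
  have h1 : y ∈ LinearMap.ker (g (n + 1)) := hx
  have e : LinearMap.ker (g n) = LinearMap.ker (g (n + 1)) := (hN n hn).symm.trans (hN (n + 1) (hn.trans n.le_succ))
  exact e.symm.le h1

variable {X : Scheme.{u}}

/-- Twisting by a power of a module. -/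
abbrev twP (L : X.Modules) (ν : ℕ) : X.Modules ⥤ X.Modules := CurvLib.tensorLeft' (CohB1.tensorPow L ν)

/-- Low degree negative twists of `G` along the divisor vanish. -/
def Van (𝓘 : X.IdealSheafData) (G : X.Modules) : Prop :=
  ∃ N : ℕ, ∀ n, N ≤ n → ∀ j : ℕ, j < 2 → Subsingleton (Coh.HH X ((tI (𝓘 ^ n)).obj G) j)

open CategoryTheory.Abelian in
/-- The connecting map followed by the first map is zero. -/
theorem hm_f_hd {S : ShortComplex X.Modules} (hS : S.ShortExact) (p : ℕ) (x : CohCmpLib.HC X S.X₃ p) :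
    CohCmpLib.hm S.f (p + 1) (CohCmpLib.hd hS p x) = 0 := by
  change (Ext.comp x (QCohLib.toAbF_shortExact hS).extClass rfl).comp (Ext.mk₀ ((QCohLib.toAbF X).map S.f))
    (add_zero (p + 1)) = 0
  rw [Ext.comp_assoc_of_third_deg_zero]
  exact (congrArg (fun t => Ext.comp x t (rfl : p + 1 = p + 1))
    (QCohLib.toAbF_shortExact hS).extClass_comp).trans (Ext.comp_zero ..)

variable {L : X.Modules}

/-- Twisting by one more power undoes the tensor product with the ideal. -/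
def twShift (𝓘 : X.IdealSheafData) (e : CohB1.tensorMod L (ClSub.idealMod 𝓘) ≅ Coh.structureModule X) (ν : ℕ)
    (Q : X.Modules) : (twP L ν).obj Q ≅ (twP L (ν + 1)).obj ((tI 𝓘).obj Q) :=
  (HilbPolyLib.congrRight (CohB1.tensorPow L ν) (HilbPolyLib.leftComm L Q (ClSub.idealMod 𝓘) ≪≫
      HilbPolyLib.congrRight Q e ≪≫ HilbPolyLib.swapIso Q _ ≪≫ HilbPolyLib.unitLeft Q)).symm ≪≫
    (HilbPolyLib.assocIso (CohB1.tensorPow L ν) L ((tI 𝓘).obj Q)).symm

variable {A : Type u} [CommRing A] [IsNoetherianRing A] [X.Over (Spec (CommRingCat.of A))]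
  [IsProper (X ↘ Spec (CommRingCat.of A))] [IsLocallyNoetherian X] {𝓘 : X.IdealSheafData}
  (hI : BlowUp.IsEffCartierIdeal 𝓘) (hL : ClSub.IsInverseOf L (ClSub.idealMod 𝓘)) (hamp : CohB1.IsAmple L)

include hI hL in
/-- The negative twists absorb the positive ones. -/
theorem nonempty_shift_iso (G : X.Modules) (m : ℕ) : ∀ ν : ℕ,
    Nonempty ((twP L ν).obj ((tI (𝓘 ^ (m + ν))).obj G) ≅ (tI (𝓘 ^ m)).obj G)
  | 0 => ⟨HilbPolyLib.unitLeft _⟩
  | ν + 1 => by
    obtain ⟨e⟩ := nonempty_shift_iso G m ν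
    obtain ⟨a⟩ := (BlowPtLib.nonempty_idealMod_pow 𝓘 hI (m + ν)).2
    obtain ⟨b⟩ := (BlowPtLib.nonempty_idealMod_pow 𝓘 hI (m + ν + 1)).2
    let i : (tI (𝓘 ^ (m + ν + 1))).obj G ≅ (tI 𝓘).obj ((tI (𝓘 ^ (m + ν))).obj G) :=
      HilbPolyLib.congrRight G (b.symm ≪≫ HilbPolyLib.congrLeft a (ClSub.idealMod 𝓘)) ≪≫
        (HilbPolyLib.assocIso G (ClSub.idealMod (𝓘 ^ (m + ν))) (ClSub.idealMod 𝓘)).symm
    exact ⟨(twP L (ν + 1)).mapIso i ≪≫ (twShift 𝓘 hL.some ν _).symm ≪≫ e⟩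

omit [IsNoetherianRing A] [IsProper (X ↘ Spec (CommRingCat.of A))] [IsLocallyNoetherian X] in
theorem surjective_hm_of_subsingleton {S : ShortComplex X.Modules} (hS : S.ShortExact) {p : ℕ}
    (h : Subsingleton (Coh.HH X S.X₃ p)) : Function.Surjective (CohCmpLib.hm S.f p) := fun y => by
  haveI : Subsingleton (CohCmpLib.HC X S.X₃ p) := h
  exact CohCmpLib.hd_exact₂ hS p y (Subsingleton.elim _ _)

theorem surjective_app_top {S : ShortComplex X.Modules} (hS : S.ShortExact)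
    (h : Function.Injective (CohCmpLib.hm S.f 1)) : Function.Surjective (S.g.app ⊤) := fun s => by
  obtain ⟨t, ht⟩ := CohCmpLib.hd_exact₃ hS 0 ((CohCmpLib.h0E S.X₃).symm s)
    (h ((hm_f_hd hS 0 _).trans (map_zero _).symm))
  exact ⟨CohCmpLib.h0E S.X₂ t, by rw [← CohCmpLib.h0E_hm, ht, AddEquiv.apply_symm_apply]⟩

theorem injective_of_subsingleton {S : ShortComplex X.Modules} (h : Subsingleton (Coh.HH X S.X₁ 1)) :
    Function.Injective (CohCmpLib.hm S.f 1) := fun x y _ =>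
  @Subsingleton.elim (CohCmpLib.HC X S.X₁ 1) h x y

/-- Twist, then multiply. -/
theorem surjective_hm_comp {M N N' M' : X.Modules} (e : M' ≅ M) (f : M ⟶ N) (c : N ⟶ N') [IsIso c] {p : ℕ}
    (h : Function.Surjective (CohCmpLib.hm f p)) : Function.Surjective (CohCmpLib.hm ((e.hom ≫ f) ≫ c) p) := fun y => by
  obtain ⟨z, hz⟩ := h (CohCmpLib.hm (inv c) p y)
  refine ⟨CohCmpLib.hm e.inv p z, ?_⟩
  rw [CohCmpLib.hm_comp, CohCmpLib.hm_comp, ← CohCmpLib.hm_comp e.inv, Iso.inv_hom_id, CohCmpLib.hm_id, hz,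
    ← CohCmpLib.hm_comp, IsIso.inv_hom_id, CohCmpLib.hm_id]

theorem injective_of_hm_comp {M N N' M' : X.Modules} (e : M' ≅ M) (f : M ⟶ N) (c : N ⟶ N') {p : ℕ}
    (h : Function.Injective (CohCmpLib.hm ((e.hom ≫ f) ≫ c) p)) : Function.Injective (CohCmpLib.hm f p) := fun y y' hy => by
  have e' : ∀ y, CohCmpLib.hm ((e.hom ≫ f) ≫ c) p (CohCmpLib.hm e.inv p y) = CohCmpLib.hm c p (CohCmpLib.hm f p y) :=
    fun y => by rw [CohCmpLib.hm_comp, CohCmpLib.hm_comp, ← CohCmpLib.hm_comp e.inv, Iso.inv_hom_id, CohCmpLib.hm_id]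
  have h1 := congrArg (CohCmpLib.hm e.hom p) (h ((e' y).trans ((congrArg _ hy).trans (e' y').symm)))
  rwa [← CohCmpLib.hm_comp, ← CohCmpLib.hm_comp, Iso.inv_hom_id, CohCmpLib.hm_id, CohCmpLib.hm_id] at h1

include A hI hL hamp in
/-- On the lines of slope one multiplication by the ideal is eventually injective on first cohomology. -/
theorem exists_injective_chain (G : FSys 𝓘) (a : ℕ) (τ : ∀ k, (tI 𝓘).obj (G.F k) ⟶ G.F (k + 1))
    (w : ∀ k, τ k ≫ G.tle (Nat.zero_le (k + 1)) = 0)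
    (hses : ∀ k, (ShortComplex.mk (τ k) (G.tle (Nat.zero_le (k + 1))) (w k)).ShortExact) :
    ∃ N, ∀ ν, N ≤ ν → Function.Injective (CohCmpLib.hm ((twP L (ν + 1)).map (τ (ν + a))) 1) := by
  obtain ⟨b, hb⟩ := SerreVanLib.exists_vanishing (X ↘ Spec (CommRingCat.of A)) hamp.1 hamp (G.F 0) (G.coh 0)
  have hP : ∀ ν, PicF.IsInvertible (CohB1.tensorPow L ν) := fun ν => AmpleThLib.tensorPow_isInvertible hamp.1 ν
  let M : ℕ → Type u := fun i => Coh.HH X ((twP L (b + i)).obj (G.F (b + i + a))) 1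
  let c : ∀ i, (twP L (b + i + 1)).obj (G.F (b + i + a + 1)) ⟶ (twP L (b + (i + 1))).obj (G.F (b + (i + 1) + a)) :=
    fun i => eqToHom (by rw [show b + (i + 1) + a = b + i + a + 1 by omega]; rfl)
  let φ := fun i => ((twShift 𝓘 hL.some (b + i) (G.F (b + i + a))).hom ≫ (twP L (b + i + 1)).map (τ (b + i + a))) ≫ c i
  let f : ∀ i, M i →ₗ[A] M (i + 1) := fun i => FormalLib.hMapA (φ i) 1
  haveI : Module.Finite A (M 0) := FormalLib.finite_HH _ (HilbPolyLib.isCoh_tensor (hP _) (G.coh _)) 1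
  have hf : ∀ i, Function.Surjective (f i) := fun i =>
    surjective_hm_comp _ _ (c i) (surjective_hm_of_subsingleton
      (HilbPolyLib.shortExact_tensor (hP (b + i + 1)) (hses (b + i + a)))
      (SerreVanLib.subsingleton_HH_of_iso (HilbPolyLib.swapIso _ _) 1 (hb (b + i + 1) (by omega) 1 one_pos)))
  obtain ⟨N, hN⟩ := eventually_injective M f hf
  refine ⟨b + N, fun ν hν => ?_⟩
  obtain ⟨i, rfl⟩ : ∃ i, ν = b + i := ⟨ν - b, by omega⟩
  exact injective_of_hm_comp (twShift 𝓘 hL.some (b + i) (G.F (b + i + a))) _ (c i) (hN i (by omega))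

include A hI hL hamp in
/-- **Sections of high twists lift to every level.** -/
theorem exists_lifts (G : FSys 𝓘) (hG : Van 𝓘 (G.F 0)) :
    ∃ ν₀ : ℕ, ∀ ν, ν₀ ≤ ν → ∀ s : Γ((twP L ν).obj (G.F 0), ⊤),
      ∃ fam : ∀ n, Γ((twP L ν).obj (G.F n), ⊤),
        fam 0 = s ∧ ∀ n, ((twP L ν).map (G.tr n)).app ⊤ (fam (n + 1)) = fam n := by
  obtain ⟨a, ha⟩ := hG
  choose τ w hses using fun k => G.exists_sesB hI k
  obtain ⟨N, hN⟩ := exists_injective_chain (A := A) hI hL hamp G a τ w hses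
  refine ⟨N + 1, fun ν hν s => ?_⟩
  obtain ⟨μ, rfl⟩ : ∃ μ, ν = μ + 1 := ⟨ν - 1, by omega⟩
  have hP : PicF.IsInvertible (CohB1.tensorPow L (μ + 1)) := AmpleThLib.tensorPow_isInvertible hamp.1 _
  obtain ⟨t₀, ht₀⟩ := surjective_app_top (HilbPolyLib.shortExact_tensor hP (hses (μ + a))) (hN μ (by omega)) s
  have hstep : ∀ n, μ + a + 1 ≤ n → Function.Surjective (((twP L (μ + 1)).map (G.tr n)).app ⊤) := fun n hn => by
    obtain ⟨σ, w', hσ⟩ := G.exists_sesA hI n
    obtain ⟨e⟩ := nonempty_shift_iso hI hL (G.F 0) (n + 1 - (μ + 1)) (μ + 1)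
    rw [Nat.sub_add_cancel (by omega : μ + 1 ≤ n + 1)] at e
    exact surjective_app_top (HilbPolyLib.shortExact_tensor hP hσ) (injective_of_subsingleton
      (SerreVanLib.subsingleton_HH_of_iso e 1 (ha _ (by omega) 1 (by omega))))
  let P := twP L (μ + 1)
  let N₀ := μ + a + 1
  have up : ∀ j : ℕ, ∀ x, ∃ y, (P.map (G.tr (N₀ + j))).app ⊤ y = x := fun j => hstep (N₀ + j) (Nat.le_add_right _ _)
  let fam' : ∀ j, Γ(P.obj (G.F (N₀ + j)), ⊤) := fun j => Nat.rec t₀ (fun j x => (up j x).choose) j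
  let fam : ∀ n, Γ(P.obj (G.F n), ⊤) := fun n => (P.map (G.tle (Nat.le_add_left n N₀))).app ⊤ (fam' n)
  refine ⟨fam, ht₀, fun n => ?_⟩
  show (P.map (G.tr n)).app ⊤ ((P.map (G.tle (Nat.le_add_left (n + 1) N₀))).app ⊤ (fam' (n + 1))) =
    (P.map (G.tle (Nat.le_add_left n N₀))).app ⊤ (fam' n)
  have h1 : (P.map (G.tr (N₀ + n))).app ⊤ (fam' (n + 1)) = fam' n := (up n (fam' n)).choose_spec
  refine Eq.trans ?_ (congrArg _ h1)
  show (P.map (G.tle (Nat.le_add_left (n + 1) N₀)) ≫ P.map (G.tr n)).app ⊤ _ =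
    (P.map (G.tr (N₀ + n)) ≫ P.map (G.tle (Nat.le_add_left n N₀))).app ⊤ _
  rw [← Functor.map_comp, ← Functor.map_comp, ← G.tle_succ, ← G.tle_succ, G.tle_trans, G.tle_trans]
  rfl

end ProjLefLib
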