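import Groth.Agent.ProjLefLib.Algz
import Groth.Agent.ProjLefLib.ComplIso

/-!
# Formal vector bundles along an ample divisor are algebraisable
-/

set_option autoImplicit false
set_option linter.style.haveILetI false
set_option linter.unusedSectionVars false
set_option backward.isDefEq.respectTransparency false
set_option backward.isDefEq.respectTransparency.types false
set_option maxHeartbeats 1000000

universe u

open CategoryTheory CategoryTheory.Limits AlgebraicGeometry TopologicalSpace Opposite FSch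

noncomputable section

namespace ProjLefLib

variable {X : Scheme.{u}} [IsLocallyNoetherian X] {𝓘 : X.IdealSheafData}

/-- Vanishing passes to kernels. -/
theorem van_kernel (hI : BlowUp.IsEffCartierIdeal 𝓘) {P Q : X.Modules} (f : P ⟶ Q) [Epi f] (hP : Van 𝓘 P)
    (hQ : Van 𝓘 Q) : Van 𝓘 (kernel f) := by
  obtain ⟨a, ha⟩ := hP
  obtain ⟨b, hb⟩ := hQ
  refine ⟨max a b, fun n hn j hj => SerreVanLib.subsingleton_HH_of_iso (HilbPolyLib.swapIso _ _) j ?_⟩
  let J := ClSub.idealMod (𝓘 ^ n)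
  let S := (ShortComplex.mk _ _ (kernel.condition f)).map (CurvLib.tensorLeft' J)
  have hJ : PicF.IsInvertible J :=
    IntMultLib.isInvertible_idealMod _ (BlowPtLib.nonempty_idealMod_pow 𝓘 hI n).1
  have hS : S.ShortExact := HilbPolyLib.shortExact_tensor hJ
    ({ exact := ShortComplex.exact_of_f_is_kernel _ (kernelIsKernel f) } :
      (ShortComplex.mk _ _ (kernel.condition f)).ShortExact)
  haveI h2 : ∀ i < 2, Subsingleton (CohCmpLib.HC X S.X₂ i) := fun i hi =>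
    SerreVanLib.subsingleton_HH_of_iso (HilbPolyLib.swapIso _ _) i (ha n (le_of_max_le_left hn) i hi)
  haveI h3 : ∀ i < 2, Subsingleton (CohCmpLib.HC X S.X₃ i) := fun i hi =>
    SerreVanLib.subsingleton_HH_of_iso (HilbPolyLib.swapIso _ _) i (hb n (le_of_max_le_right hn) i hi)
  refine ⟨fun x y => ?_⟩
  obtain rfl | rfl : j = 0 ∨ j = 1 := by omega
  · exact CohCmpLib.hm_f_injective hS ((h2 0 hj).elim _ _)
  · have h0 : ∀ z : CohCmpLib.HC X S.X₁ 1, z = 0 := fun z => by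
      obtain ⟨w, rfl⟩ := CohCmpLib.hd_exact₁ hS 0 z ((h2 1 hj).elim _ _)
      rw [(h3 0 (by omega)).elim w 0, map_zero]
    exact (h0 x).trans (h0 y).symm

theorem isCoh_untwist {A' : X.Modules} (hA : PicF.IsInvertible A') (p : ℕ) :
    Coh.IsCoh (CohB1.tensorMod A' (FlatMod.freeMod X p)) :=
  LocSuppLib.isCoh_of_isFinLocFree (isFinLocFree_untwist hA p)

theorem map_epi_zero_surjective (hI : BlowUp.IsEffCartierIdeal 𝓘) {M : X.Modules} (hM : FlatMod.IsFinLocFree M)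
    {G : FSys 𝓘} (g : ∀ n, M ⟶ G.F n) [Epi (g 0)] (α : FSys.Map (complSys 𝓘 hM) G)
    (hα : ∀ n, cπ 𝓘 M n ≫ α.app n = g n) {V : X.affineOpens} {t : Γ(X, V.1)} (hV : 𝓘.ideal V = Ideal.span {t})
    (ht : t ∈ nonZeroDivisors Γ(X, V.1)) : ∀ n, Function.Surjective ((α.app n).app V.1) := by
  haveI : Coh.IsQCoh M := (LocSuppLib.isCoh_of_isFinLocFree hM).1
  haveI := (G.coh 0).1
  refine FSys.Map.surjective α hV ht fun y => ?_
  obtain ⟨z, hz⟩ := FormalCohLib.app_surjective_of_epi (g 0) V.2 y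
  exact ⟨(cπ 𝓘 M 0).app V.1 z, (congr(Scheme.Modules.Hom.app $(hα 0) V.1 z)).trans hz⟩

/-- **Formal vector bundles along an ample divisor come from coherent modules.** -/
theorem exists_algebraization {A : Type u} [CommRing A] [IsNoetherianRing A] [X.Over (Spec (CommRingCat.of A))]
    [IsProper (X ↘ Spec (CommRingCat.of A))] {L : X.Modules} (hI : BlowUp.IsEffCartierIdeal 𝓘)
    (hL : ClSub.IsInverseOf L (ClSub.idealMod 𝓘)) (hamp : CohB1.IsAmple L) (hv : VanAll 𝓘)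
    (hY : ∀ 𝔐 : ModSys (completionAlong X 𝓘), LefX.LevelwiseFinLocFree 𝔐 → Van 𝓘 (lev 𝓘 𝔐 0))
    (𝔐 : ModSys (completionAlong X 𝓘)) (hF : LefX.LevelwiseFinLocFree 𝔐) :
    ∃ M : X.Modules, Coh.IsCoh M ∧ Nonempty (complMod 𝓘 M ≅ 𝔐) := by
  haveI : HasExt.{u} X.Modules := inferInstance
  let G := levSys 𝓘 𝔐 hF
  obtain ⟨C, A', hC, vC, m, g, hg, hg0⟩ := exists_presentation (A := A) hI hL hamp G (hY 𝔐 hF)
  have hA' : PicF.IsInvertible A' := CohCmpLib.isInvertible_of_inverse' hC vC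
  let V := CohB1.tensorMod A' (FlatMod.freeMod X m)
  have hV : FlatMod.IsFinLocFree V := isFinLocFree_untwist hA' m
  have hVc : Coh.IsCoh V := isCoh_untwist hA' m
  obtain ⟨α, hα⟩ := exists_sysMap 𝓘 hI hV G g hg
  haveI := hg0
  let K := FSys.kernelSys α fun W t hW ht => map_epi_zero_surjective hI hV g α hα hW ht
  haveI : Epi (α.app 0) := epi_of_epi_fac (hα 0)
  have hK : Van 𝓘 (K.F 0) := van_kernel hI (α.app 0)
    (hY _ fun n => CohCmpLib.isFinLocFree_pb (g := completionToX X 𝓘 n) hV) (hY 𝔐 hF)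
  obtain ⟨C', A'', hC', vC', p, h, hh, hh0⟩ := exists_presentation (A := A) hI hL hamp K hK
  have hA'' : PicF.IsInvertible A'' := CohCmpLib.isInvertible_of_inverse' hC' vC'
  let W := CohB1.tensorMod A'' (FlatMod.freeMod X p)
  have hW : FlatMod.IsFinLocFree W := isFinLocFree_untwist hA'' p
  obtain ⟨β, hβ⟩ := exists_sysMap 𝓘 hI hW K h hh
  haveI := hh0
  obtain ⟨φ, hφ⟩ := exists_algebraic hI hv hC' vC' p hV (fun n => h n ≫ kernel.ι (α.app n)) fun n => by
    rw [← hh n, Category.assoc, Category.assoc]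
    exact congrArg (h (n + 1) ≫ ·) (kernel.lift_ι _ _ _).symm
  haveI : Coh.IsQCoh W := (isCoh_untwist hA'' p).1
  have hM : Coh.IsCoh (cokernel φ) := QCohLib.isCoh_cokernel φ (isCoh_untwist hA'' p).1 hVc
  haveI := hM.1
  haveI := hVc.1
  let γ : ∀ n, cokernel φ ⟶ lev 𝓘 𝔐 n := fun n => cokernel.desc φ (g n) (by
    rw [← hα n, ← Category.assoc, hφ n, Category.assoc, kernel.condition, comp_zero])
  have hγ : ∀ n, γ (n + 1) ≫ FCohLib.gTr 𝓘 𝔐 n = γ n := fun n => coequalizer.hom_ext (by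
    show cokernel.π φ ≫ γ (n + 1) ≫ _ = cokernel.π φ ≫ γ n
    rw [cokernel.π_desc_assoc, cokernel.π_desc]
    exact hg n)
  refine ⟨cokernel φ, hM, nonempty_complMod_iso 𝓘 hI 𝔐 hF γ hγ fun x => ?_⟩
  obtain ⟨U, t, hx, ht, hU⟩ := exists_chart 𝓘 hI x
  refine ⟨U, t, hx, hU, fun n => ⟨fun y => ?_, fun z hz => ?_⟩⟩
  · obtain ⟨a, rfl⟩ := map_epi_zero_surjective hI hV g α hα hU ht n y
    obtain ⟨b, rfl⟩ := (cπ_affine 𝓘 hU V n).1 a
    exact ⟨(cokernel.π φ).app U.1 b,
      (congr(Scheme.Modules.Hom.app $(cokernel.π_desc φ (g n) _) U.1 b)).trans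
        congr(Scheme.Modules.Hom.app $(hα n) U.1 b).symm⟩
  · obtain ⟨b, rfl⟩ := FormalCohLib.app_surjective_of_epi (cokernel.π φ) U.2 z
    have h0 : (α.app n).app U.1 ((cπ 𝓘 V n).app U.1 b) = 0 :=
      (congr(Scheme.Modules.Hom.app $(hα n) U.1 b)).trans
        ((congr(Scheme.Modules.Hom.app $(cokernel.π_desc φ (g n) _) U.1 b)).symm.trans hz)
    haveI := ((complSys 𝓘 hV).coh n).1
    haveI := (G.coh n).1
    haveI : Coh.IsQCoh (kernel (α.app n)) := QCohLib.isQCoh_kernel _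
    obtain ⟨k, hk⟩ := QCohLib.exists_of_app_eq_zero
      (S := ShortComplex.mk (kernel.ι (α.app n)) (α.app n) (kernel.condition _))
      (ShortComplex.exact_of_f_is_kernel _ (kernelIsKernel _)) (inferInstanceAs (Mono (kernel.ι (α.app n)))) _ h0
    obtain ⟨a, rfl⟩ := map_epi_zero_surjective hI hW h β hβ hU ht n k
    obtain ⟨a, rfl⟩ := (cπ_affine 𝓘 hU W n).1 a
    have h1 : (cπ 𝓘 V n).app U.1 (b - φ.app U.1 a) = 0 := by
      rw [map_sub, sub_eq_zero, ← show (kernel.ι (α.app n)).app U.1 _ = (cπ 𝓘 V n).app U.1 b from hk]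
      refine (congrArg ((kernel.ι (α.app n)).app U.1) congr(Scheme.Modules.Hom.app $(hβ n) U.1 a)).trans ?_
      exact congr(Scheme.Modules.Hom.app $(hφ n) U.1 a).symm
    obtain ⟨m', hm'⟩ := ((cπ_affine 𝓘 hU V n).2 _).1 h1
    refine ⟨(cokernel.π φ).app U.1 m', ?_⟩
    rw [← QCohLib.app_smul, hm', map_sub]
    exact sub_eq_self.2 congr(Scheme.Modules.Hom.app $(cokernel.condition φ) U.1 a)

end ProjLefLib
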