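import Groth.Agent.ProjLefLib.Bundle
import Groth.Agent.LeffEtLib.Pure
import Groth.Agent.AmpleFinGenLib.Divisor
import Groth.Agent.LefFlatLib.Field

/-!
# Finite étale covers of an ample divisor
-/

set_option autoImplicit false
set_option linter.style.haveILetI false
set_option backward.isDefEq.respectTransparency false
set_option backward.isDefEq.respectTransparency.types false
set_option maxHeartbeats 1000000

universe u

open CategoryTheory CategoryTheory.Limits AlgebraicGeometry TopologicalSpace Opposite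

noncomputable section

namespace ProjLefLib

variable {X : Scheme.{u}} {𝓘 : X.IdealSheafData}

/-- Restriction to the divisor is an equivalence given purity off all its neighbourhoods. -/
theorem isEquivalence_of_leff_purity [IsLocallyNoetherian X] (h : LefX.LeffCond X 𝓘)
    (hb : ∀ D : X.Modules, FlatMod.IsFinLocFree D → Lef.HomToFormalBijective 𝓘 D)
    (hd : ∀ U : X.Opens, (𝓘.support : Set X) ⊆ (U : Set X) → ∀ x : X, x ∉ U →
      (2 : ℕ∞) ≤ LocCoh.depth (X.presheaf.stalk x) (X.presheaf.stalk x))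
    (hp : ∀ U : X.Opens, (𝓘.support : Set X) ⊆ (U : Set X) → ∀ x : X, x ∉ U →
      FEt.PurityHolds (X.presheaf.stalk x)) : (FEt.restrict 𝓘.subschemeι).IsEquivalence := by
  have hrange : ∀ {U : X.Opens}, (𝓘.support : Set X) ⊆ (U : Set X) →
      Set.range 𝓘.subschemeι ⊆ Set.range U.ι := fun {U} hU => by
    rw [Scheme.IdealSheafData.range_subschemeι, Scheme.Opens.range_ι]
    exact hU
  obtain ⟨hfull, hfaith⟩ := FEtLefLib.restrict_full_faithful (X := X) (𝓘 := 𝓘) hb
  haveI := hfull
  haveI := hfaith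
  haveI : (FEt.restrict 𝓘.subschemeι).EssSurj := ⟨fun R => by
    obtain ⟨U, R', hY, hR'⟩ := LeffEt.exists_nhd_extension h R
    let i' := IsOpenImmersion.lift U.ι 𝓘.subschemeι (hrange hY)
    have hi' : i' ≫ U.ι = 𝓘.subschemeι := IsOpenImmersion.lift_fac _ _ _
    obtain ⟨eR⟩ := hR' i' hi'
    haveI := PurityGlueLib.isEquivalence_of_purity U (hd U hY) (hp U hY)
    exact ⟨(FEt.restrict U.ι).objPreimage R', ⟨(LeffEt.restrictComp i' U.ι _ hi'.symm).app _ ≪≫
      (FEt.restrict i').mapIso ((FEt.restrict U.ι).objObjPreimageIso R') ≪≫ eR⟩⟩⟩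
  exact { }

/-- Points off a neighbourhood of an ample divisor are closed. -/
theorem isClosed_singleton_off (k : Type u) [Field k] [X.Over (Spec (CommRingCat.of k))]
    [IsProper (X ↘ Spec (CommRingCat.of k))] {L : X.Modules}
    (hL : ClSub.IsInverseOf L (ClSub.idealMod 𝓘)) (hamp : CohB1.IsAmple L) (U : X.Opens)
    (hU : (𝓘.support : Set X) ⊆ (U : Set X)) (x : X) (hx : x ∉ U) : IsClosed ({x} : Set X) := by
  haveI : IsLocallyNoetherian X := LocallyOfFiniteType.isLocallyNoetherian (X ↘ Spec (CommRingCat.of k))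
  exact LefFlatLib.isClosed_of_isClosed_asFiber k (X ↘ Spec (CommRingCat.of k)) x
    ((Groth.Agent.S5195.result k X 𝓘 L hL hamp (U : Set X)ᶜ U.isOpen.isClosed_compl
      (Set.disjoint_left.2 fun y hy hy' => hy (hU hy')) 0).1 x hx)

/-- **Finite étale covers of an ample effective Cartier divisor over a field.** -/
theorem isEquivalence_field (k : Type u) [Field k] [X.Over (Spec (CommRingCat.of k))]
    [IsProper (X ↘ Spec (CommRingCat.of k))] {L : X.Modules}
    (hL : ClSub.IsInverseOf L (ClSub.idealMod 𝓘)) (hamp : CohB1.IsAmple L)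
    (hd2 : ∀ x : X, IsClosed ({x} : Set X) → (2 : ℕ∞) ≤ LocCoh.depth (X.presheaf.stalk x) (X.presheaf.stalk x))
    (hd3 : ∀ x : X, IsClosed ({x} : Set X) → x ∈ (𝓘.support : Set X) →
      (3 : ℕ∞) ≤ LocCoh.depth (X.presheaf.stalk x) (X.presheaf.stalk x))
    (hp : ∀ x : X, IsClosed ({x} : Set X) → x ∉ (𝓘.support : Set X) → FEt.PurityHolds (X.presheaf.stalk x)) :
    (FEt.restrict 𝓘.subschemeι).IsEquivalence := by
  haveI : IsNoetherian X := CurvLib.isNoetherian k (X := X)
  exact isEquivalence_of_leff_purity (leffCond_field k 𝓘 hL hamp hd2 hd3)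
    (fun D hD => homToFormalBijective_coh (negVanish_field k 𝓘 hL hamp hd2) hamp (LocSuppLib.isCoh_of_isFinLocFree hD))
    (fun U hU x hx => hd2 x (isClosed_singleton_off k hL hamp U hU x hx))
    (fun U hU x hx => hp x (isClosed_singleton_off k hL hamp U hU x hx) fun h => hx (hU h))

end ProjLefLib
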