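import Groth.Agent.LefAlgzLib.Hom
import Groth.Agent.LeffPicLib.Nhd
import Groth.Agent.CurvLib.Divisor
import Groth.Agent.QuotObsLib.ExtFin
import Groth.Agent.RefHullLib.BigOpen
import Mathlib.CategoryTheory.Abelian.GrothendieckCategory.EnoughInjectives

/-!
# Homomorphisms into the formal completion of the structure sheaf
-/

set_option autoImplicit false
set_option linter.style.haveILetI false
set_option backward.isDefEq.respectTransparency false
set_option backward.isDefEq.respectTransparency.types false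
set_option maxHeartbeats 1000000

universe u

open CategoryTheory CategoryTheory.Limits CategoryTheory.Abelian AlgebraicGeometry TopologicalSpace Opposite

noncomputable section

namespace ProjLefLib

variable {X : Scheme.{u}} {𝓙 : X.IdealSheafData}

theorem toSub_quotMap {I J : X.IdealSheafData} (h : I ≤ J) :
    ClSub.toSubscheme I ≫ Lef.quotMap h = ClSub.toSubscheme J := LefAlgzLib.toSubscheme_quotMap h

theorem formal_quotMap {D : X.Modules} {y : ∀ n : ℕ, D ⟶ ClSub.quotMod (𝓙 ^ (n + 1))}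
    (hy : Lef.IsFormalHom 𝓙 D y) : ∀ {a b : ℕ} (h : a ≤ b),
      y b ≫ Lef.quotMap (LeffPicLib.pow_le_pow_ideal 𝓙 (by omega : a + 1 ≤ b + 1)) = y a := by
  intro a b h
  induction b, h using Nat.le_induction with
  | base =>
    have hid : Lef.quotMap (LeffPicLib.pow_le_pow_ideal 𝓙 (le_refl (a + 1))) = 𝟙 _ := by
      haveI : Epi (ClSub.toSubscheme (𝓙 ^ (a + 1))) := CurvLib.epi_toSubscheme _
      rw [← cancel_epi (ClSub.toSubscheme (𝓙 ^ (a + 1))), toSub_quotMap, Category.comp_id]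
    rw [hid, Category.comp_id]
  | succ b hb ih => rw [← ih, ← hy b, Category.assoc, LeffPicLib.quotMap_comp]

/-- Vanishing of maps and extensions into high powers of the ideal gives bijectivity. -/
theorem homToFormalBijective_of_ext [HasExt.{u} X.Modules] {V : X.Modules} (N : ℕ)
    (h₀ : ∀ n, N ≤ n → Subsingleton (V ⟶ ClSub.idealMod (𝓙 ^ (n + 1))))
    (h₁ : ∀ n, N ≤ n → Subsingleton (Ext.{u} V (ClSub.idealMod (𝓙 ^ (n + 1))) 1)) :
    Lef.HomToFormalBijective 𝓙 V := by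
  have hinj : ∀ (n : ℕ), N ≤ n → ∀ φ ψ : V ⟶ Coh.structureModule X,
      φ ≫ ClSub.toSubscheme (𝓙 ^ (n + 1)) = ψ ≫ ClSub.toSubscheme (𝓙 ^ (n + 1)) → φ = ψ := fun n hn φ ψ h => by
    have hS := CurvLib.idealSeq_shortExact (𝓙 ^ (n + 1))
    obtain ⟨χ, hχ⟩ : ∃ χ : V ⟶ ClSub.idealMod (𝓙 ^ (n + 1)), χ ≫ ClSub.idealModι _ = φ - ψ :=
      ⟨kernel.lift (ClSub.toSubscheme (𝓙 ^ (n + 1))) (φ - ψ) (by rw [Preadditive.sub_comp, h, sub_self]),
        kernel.lift_ι _ _ _⟩
    rw [(h₀ n hn).elim χ 0, zero_comp] at hχ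
    exact sub_eq_zero.1 hχ.symm
  refine ⟨fun φ ψ h => hinj N le_rfl φ ψ (h N), fun y hy => ?_⟩
  have hlift : ∀ n, N ≤ n → ∃ φ : V ⟶ Coh.structureModule X, φ ≫ ClSub.toSubscheme (𝓙 ^ (n + 1)) = y n :=
    fun n hn => by
      obtain ⟨x, hx⟩ := Ext.covariant_sequence_exact₃ V (CurvLib.idealSeq_shortExact (𝓙 ^ (n + 1)))
        (Ext.mk₀ (y n)) (zero_add 1) ((h₁ n hn).elim _ _)
      obtain ⟨g, rfl⟩ := (Ext.mk₀_bijective _ _).2 x
      rw [Ext.mk₀_comp_mk₀] at hx
      exact ⟨g, (Ext.mk₀_bijective _ _).1 hx⟩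
  obtain ⟨φ, hφ⟩ := hlift N le_rfl
  refine ⟨φ, fun n => ?_⟩
  obtain ⟨ψ, hψ⟩ := hlift (max n N) (le_max_right _ _)
  have hφψ : φ = ψ := hinj N le_rfl φ ψ (by
    rw [hφ, ← toSub_quotMap (LeffPicLib.pow_le_pow_ideal 𝓙 (by omega : N + 1 ≤ max n N + 1)), ← Category.assoc, hψ,
      formal_quotMap hy (le_max_right n N)])
  rw [hφψ, ← toSub_quotMap (LeffPicLib.pow_le_pow_ideal 𝓙 (by omega : n + 1 ≤ max n N + 1)), ← Category.assoc, hψ,
    formal_quotMap hy (le_max_left n N)]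

/-- A quotient of a good module whose kernel is separated is good. -/
theorem homToFormalBijective_of_epi {V V' D : X.Modules} (hV : Lef.HomToFormalBijective 𝓙 V) (π : V ⟶ D) [Epi π]
    (ρ : V' ⟶ kernel π) [Epi ρ] (hV' : Lef.HomToFormalBijective 𝓙 V') : Lef.HomToFormalBijective 𝓙 D := by
  refine ⟨fun φ ψ h => (cancel_epi π).1 (hV.1 _ _ fun n => by rw [Category.assoc, Category.assoc, h n]),
    fun y hy => ?_⟩
  obtain ⟨Φ, hΦ⟩ := hV.2 (fun n => π ≫ y n) fun n => by rw [Category.assoc, hy n]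
  have hk : kernel.ι π ≫ Φ = 0 := by
    rw [← cancel_epi ρ, comp_zero]
    refine hV'.1 _ _ fun n => ?_
    rw [Category.assoc, Category.assoc, hΦ, kernel.condition_assoc, zero_comp, comp_zero, zero_comp]
  refine ⟨Abelian.epiDesc π Φ hk, fun n => (cancel_epi π).1 ?_⟩
  rw [← Category.assoc, Abelian.comp_epiDesc, hΦ]

theorem homToFormalBijective_of_iso {D D' : X.Modules} (e : D ≅ D') (h : Lef.HomToFormalBijective 𝓙 D) :
    Lef.HomToFormalBijective 𝓙 D' := by
  refine ⟨fun φ ψ hh => (cancel_epi e.hom).1 (h.1 _ _ fun n => by rw [Category.assoc, Category.assoc, hh n]),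
    fun y hy => ?_⟩
  obtain ⟨φ, hφ⟩ := h.2 (fun n => e.hom ≫ y n) fun n => by rw [Category.assoc, hy n]
  exact ⟨e.inv ≫ φ, fun n => by rw [Category.assoc, hφ, Iso.inv_hom_id_assoc]⟩

end ProjLefLib
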