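import Groth.Agent.FCohLib.AlgzPush
import Groth.Agent.FCohLib.AffMod
import Groth.Agent.FCohLib.AlgzFaithful
import Groth.Agent.CohBCLib.Cons
import Groth.Agent.IntMultLib.Cartier
import Groth.Prelude.Def_LefX

/-!
# The levels of a locally free system along an effective Cartier divisor, on sections
-/

set_option autoImplicit false
set_option linter.style.haveILetI false
set_option backward.isDefEq.respectTransparency false
set_option backward.isDefEq.respectTransparency.types false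
set_option maxHeartbeats 1000000

universe u

open CategoryTheory CategoryTheory.Limits AlgebraicGeometry TopologicalSpace Opposite FSch

noncomputable section

namespace ProjLefLib

/-- Flat modules inherit the annihilator of an element. -/
theorem exists_smul_eq_of_flat {R : Type u} [CommRing R] {M : Type u} [AddCommGroup M] [Module R M] [Module.Flat R M]
    {a b : R} (hab : a * b = 0) (h : ∀ r, a * r = 0 → ∃ c, r = b * c) {m : M} (hm : a • m = 0) :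
    ∃ m', b • m' = m := by
  have hex : Function.Exact (LinearMap.lsmul R R b) (LinearMap.lsmul R R a) := fun r => by
    constructor
    · intro hr
      obtain ⟨c, rfl⟩ := h r hr
      exact ⟨c, rfl⟩
    · rintro ⟨c, rfl⟩
      show a * (b * c) = 0
      rw [← mul_assoc, hab, zero_mul]
  have hT := Module.Flat.lTensor_exact M hex
  have e : ∀ (c : R) (z : TensorProduct R M R), TensorProduct.rid R M (LinearMap.lTensor M (LinearMap.lsmul R R c) z) =
      c • TensorProduct.rid R M z := fun c z => by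
    induction z using TensorProduct.induction_on with
    | zero => simp
    | tmul x r => simp [mul_smul]
    | add x y hx hy => simp [map_add, hx, hy]
  obtain ⟨z, hz⟩ := (hT ((TensorProduct.rid R M).symm m)).1 ((TensorProduct.rid R M).injective (by
    rw [e, LinearEquiv.apply_symm_apply, hm, map_zero]))
  exact ⟨TensorProduct.rid R M z, by rw [← e, hz, LinearEquiv.apply_symm_apply]⟩

theorem pushTri_app {Z Z' X : Scheme.{u}} (ι : Z ⟶ Z') (i : Z' ⟶ X) {j : Z ⟶ X} (hc : ι ≫ i = j) (M : Z.Modules)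
    (V : X.Opens) (x : Γ(M, ι ⁻¹ᵁ (i ⁻¹ᵁ V))) :
    ((FCohLib.pushTri ι i hc).hom.app M).app V x =
      M.presheaf.map (homOfLE (by subst hc; exact le_rfl : j ⁻¹ᵁ V ≤ ι ⁻¹ᵁ (i ⁻¹ᵁ V))).op x := by
  subst hc
  have e2 : (FCohLib.pushTri ι i rfl).hom.app M = (Scheme.Modules.pushforwardComp ι i).hom.app M := by
    refine Scheme.Modules.hom_ext _ _ fun U => ?_
    simp
  rw [e2]
  refine Eq.trans ?_ (congr($(M.presheaf.map_id (op (ι ⁻¹ᵁ (i ⁻¹ᵁ V)))) x)).symm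
  simp

/-- A transition map of direct images on sections. -/
theorem tr_app {Z Z' X : Scheme.{u}} (ι : Z ⟶ Z') (i : Z' ⟶ X) {j : Z ⟶ X} (hc : ι ≫ i = j) (N : Z'.Modules)
    {M : Z.Modules} (e : (Scheme.Modules.pullback ι).obj N ⟶ M) (V : X.Opens) (m : Γ(N, i ⁻¹ᵁ V))
    (h : j ⁻¹ᵁ V ≤ ι ⁻¹ᵁ (i ⁻¹ᵁ V)) :
    ((Scheme.Modules.pushforward i).map ((Scheme.Modules.pullbackPushforwardAdjunction ι).unit.app N ≫
        (Scheme.Modules.pushforward ι).map e) ≫ (FCohLib.pushTri ι i hc).hom.app M).app V m =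
      e.app (j ⁻¹ᵁ V) (KFlatLib.puSecLE ι N h m) := by
  refine (pushTri_app ι i hc M V _).trans ?_
  exact (QCohLib.app_map e (homOfLE h) _).symm

theorem appLE_app_apply {Z Z' X : Scheme.{u}} (ι : Z ⟶ Z') (i : Z' ⟶ X) {j : Z ⟶ X} (hc : ι ≫ i = j) (V : X.Opens)
    (h : j ⁻¹ᵁ V ≤ ι ⁻¹ᵁ (i ⁻¹ᵁ V)) (r : Γ(X, V)) :
    ι.appLE (i ⁻¹ᵁ V) (j ⁻¹ᵁ V) h (i.app V r) = j.app V r := by
  subst hc
  rw [← Scheme.Hom.appLE_eq_app i, ← CommRingCat.comp_apply, Scheme.Hom.appLE_comp_appLE, ← Scheme.Hom.appLE_eq_app]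

variable {X : Scheme.{u}} (𝓘 : X.IdealSheafData) (𝔐 : ModSys (completionAlong X 𝓘))

/-- The direct image of a level. -/
abbrev lev (k : ℕ) : X.Modules := (Scheme.Modules.pushforward (completionToX X 𝓘 k)).obj (𝔐.F k)

theorem preimage_level_le (k : ℕ) (V : X.Opens) :
    completionToX X 𝓘 k ⁻¹ᵁ V ≤ (completionAlong X 𝓘).ι k ⁻¹ᵁ (completionToX X 𝓘 (k + 1) ⁻¹ᵁ V) := by
  rw [← Scheme.Hom.comp_preimage, completionToX_comm X 𝓘 k]

theorem gTr_app (k : ℕ) (V : X.Opens) (m : Γ(lev 𝓘 𝔐 (k + 1), V)) :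
    (FCohLib.gTr 𝓘 𝔐 k).app V m =
      (𝔐.e k).hom.app (completionToX X 𝓘 k ⁻¹ᵁ V)
        (KFlatLib.puSecLE ((completionAlong X 𝓘).ι k) (𝔐.F (k + 1)) (preimage_level_le 𝓘 k V) m) := by
  exact tr_app _ _ (completionToX_comm X 𝓘 k) (𝔐.F (k + 1)) (𝔐.e k).hom V m _

variable {𝓘} {𝔐} {V : X.affineOpens} {t : Γ(X, V.1)} (hV : 𝓘.ideal V = Ideal.span {t})

include hV

theorem level_app_eq_zero_iff (k : ℕ) (r : Γ(X, V.1)) :
    (completionToX X 𝓘 k).app V.1 r = 0 ↔ t ^ (k + 1) ∣ r := by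
  have h : RingHom.ker ((completionToX X 𝓘 k).app V.1).hom = Ideal.span {t ^ (k + 1)} := by
    rw [FCohLib.ker_app_completionToX 𝓘 k V, ← Scheme.Hom.ker_apply,
      show (completionToX X 𝓘 0).ker = 𝓘 ^ (0 + 1) from Scheme.IdealSheafData.ker_subschemeι _, zero_add, pow_one, hV,
      Ideal.span_singleton_pow]
  rw [← Ideal.mem_span_singleton, ← h]
  exact Iff.rfl

theorem pow_smul_level (k : ℕ) (m : Γ(lev 𝓘 𝔐 k, V.1)) : t ^ (k + 1) • m = 0 := by
  have h : (completionToX X 𝓘 k).app V.1 (t ^ (k + 1)) = 0 := (level_app_eq_zero_iff hV k _).2 dvd_rfl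
  show (completionToX X 𝓘 k).app V.1 (t ^ (k + 1)) • (show Γ(𝔐.F k, completionToX X 𝓘 k ⁻¹ᵁ V.1) from m) = 0
  rw [h, zero_smul]

/-- One step on sections. -/
theorem gTr_affine (hQ : ∀ n, Coh.IsQCoh (𝔐.F n)) (k : ℕ) :
    Function.Surjective ((FCohLib.gTr 𝓘 𝔐 k).app V.1) ∧
      ∀ m, (FCohLib.gTr 𝓘 𝔐 k).app V.1 m = 0 ↔ ∃ m' : Γ(lev 𝓘 𝔐 (k + 1), V.1), t ^ (k + 1) • m' = m := by
  let ι := (completionAlong X 𝓘).ι k
  let U := completionToX X 𝓘 (k + 1) ⁻¹ᵁ V.1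
  let U' := completionToX X 𝓘 k ⁻¹ᵁ V.1
  have hU : IsAffineOpen U := V.2.preimage _
  have hU' : IsAffineOpen U' := V.2.preimage _
  let hle : U' ≤ ι ⁻¹ᵁ U := preimage_level_le 𝓘 k V.1
  let φ : Γ((completionAlong X 𝓘).X (k + 1), U) →+* Γ((completionAlong X 𝓘).X k, U') := (ι.appLE U U' hle).hom
  letI := φ.toAlgebra
  let P := (Scheme.Modules.pullback ι).obj (𝔐.F (k + 1))
  letI : Module Γ((completionAlong X 𝓘).X (k + 1), U) Γ(P, U') := Module.compHom _ φ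
  haveI : IsScalarTower Γ((completionAlong X 𝓘).X (k + 1), U) Γ((completionAlong X 𝓘).X k, U') Γ(P, U') :=
    IsScalarTower.of_algebraMap_smul fun _ _ => rfl
  haveI := hQ (k + 1)
  let ψ : Γ(𝔐.F (k + 1), U) →ₗ[Γ((completionAlong X 𝓘).X (k + 1), U)] Γ(P, U') :=
    { toFun := KFlatLib.puSecLE ι (𝔐.F (k + 1)) hle
      map_add' := map_add _
      map_smul' := fun r m => KFlatLib.puSecLE_smul ι (𝔐.F (k + 1)) hle r m }
  have hcomp : ∀ r : Γ(X, V.1), φ ((completionToX X 𝓘 (k + 1)).app V.1 r) = (completionToX X 𝓘 k).app V.1 r :=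
    fun r => appLE_app_apply ι _ (completionToX_comm X 𝓘 k) V.1 hle r
  haveI := FComplLib.isClosedImmersion_completionToX X 𝓘 k
  haveI := FComplLib.isClosedImmersion_completionToX X 𝓘 (k + 1)
  have hsurj₁ : Function.Surjective ((completionToX X 𝓘 (k + 1)).app V.1) :=
    Scheme.Hom.app_surjective _ _ V.2
  have hsurj₀ : Function.Surjective ((completionToX X 𝓘 k).app V.1) := Scheme.Hom.app_surjective _ _ V.2
  have hφ : Function.Surjective φ := fun y => by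
    obtain ⟨r, rfl⟩ := hsurj₀ y
    exact ⟨_, hcomp r⟩
  obtain ⟨hs, hk⟩ := FCohLib.mem_ker_iff_of_isBaseChange ψ
    (KFlatLib.isBaseChange_puSec ι (𝔐.F (k + 1)) hU hU' hle (fun _ => rfl) ψ (fun _ => rfl)) hφ
  have hinj : ∀ y : Γ(P, U'), (𝔐.e k).hom.app U' y = 0 ↔ y = 0 := fun y => by
    refine ⟨fun hy => ?_, fun hy => by rw [hy, map_zero]⟩
    have h1 := congr($(congrArg (fun a : P ⟶ P => a.app U') (𝔐.e k).hom_inv_id) y)
    exact h1.symm.trans ((congrArg ((𝔐.e k).inv.app _) hy).trans (map_zero _))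
  refine ⟨fun y => ?_, fun m => ?_⟩
  · obtain ⟨m, hm⟩ := hs ((𝔐.e k).inv.app U' y)
    refine ⟨m, (gTr_app 𝓘 𝔐 k V.1 m).trans ((congrArg ((𝔐.e k).hom.app _) hm).trans ?_)⟩
    exact congr($(congrArg (fun a : 𝔐.F k ⟶ 𝔐.F k => a.app U') (𝔐.e k).inv_hom_id) y)
  · rw [gTr_app]
    refine ((hinj _).trans (hk m)).trans ?_
    have hker : RingHom.ker (algebraMap Γ((completionAlong X 𝓘).X (k + 1), U) Γ((completionAlong X 𝓘).X k, U')) =
        Ideal.span {(completionToX X 𝓘 (k + 1)).app V.1 (t ^ (k + 1))} := by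
      refine le_antisymm (fun a ha => ?_) ?_
      · obtain ⟨r, rfl⟩ := hsurj₁ a
        obtain ⟨c, rfl⟩ := (level_app_eq_zero_iff hV k r).1 ((hcomp r).symm.trans ha)
        rw [map_mul]
        exact Ideal.mul_mem_right _ _ (Ideal.mem_span_singleton_self _)
      · rw [Ideal.span_singleton_le_iff_mem]
        exact (hcomp _).trans ((level_app_eq_zero_iff hV k _).2 dvd_rfl)
    rw [hker, Submodule.ideal_span_singleton_smul, Submodule.mem_smul_pointwise_iff_exists]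
    exact ⟨fun ⟨b, _, hb⟩ => ⟨b, hb⟩, fun ⟨b, hb⟩ => ⟨b, trivial, hb⟩⟩

/-- Torsion of a level. -/
theorem exists_of_smul_eq_zero (ht : t ∈ nonZeroDivisors Γ(X, V.1)) (hF : LefX.LevelwiseFinLocFree 𝔐) (k : ℕ)
    {m : Γ(lev 𝓘 𝔐 (k + 1), V.1)} (hm : t • m = 0) : ∃ m' : Γ(lev 𝓘 𝔐 (k + 1), V.1), t ^ (k + 1) • m' = m := by
  haveI := FComplLib.isClosedImmersion_completionToX X 𝓘 (k + 1)
  let j := completionToX X 𝓘 (k + 1)
  haveI : Module.Flat Γ((completionAlong X 𝓘).X (k + 1), j ⁻¹ᵁ V.1) Γ(𝔐.F (k + 1), j ⁻¹ᵁ V.1) :=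
    CohBCLib.flat_sections_of_isFinLocFree (𝔐.F (k + 1)) (hF (k + 1)) (V.2.preimage _)
  have hmul : j.app V.1 t * j.app V.1 (t ^ (k + 1)) = 0 := by
    rw [← map_mul, level_app_eq_zero_iff hV, ← pow_succ']
  refine exists_smul_eq_of_flat (R := Γ((completionAlong X 𝓘).X (k + 1), j ⁻¹ᵁ V.1))
    (M := Γ(𝔐.F (k + 1), j ⁻¹ᵁ V.1)) hmul (fun r hr => ?_) hm
  obtain ⟨r, rfl⟩ := j.app_surjective _ V.2 r
  rw [← map_mul, level_app_eq_zero_iff hV, pow_succ'] at hr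
  obtain ⟨c, hc⟩ := hr
  rw [mul_assoc] at hc
  have : r = t ^ (k + 1) * c := by
    refine sub_eq_zero.1 (mem_nonZeroDivisors_iff_right.1 ht _ ?_)
    rw [sub_mul, mul_comm r, hc]
    ring
  exact ⟨j.app V.1 c, by rw [this, map_mul]⟩

/-- Torsion of a level by the top power. -/
theorem exists_of_pow_smul_eq_zero (ht : t ∈ nonZeroDivisors Γ(X, V.1)) (hF : LefX.LevelwiseFinLocFree 𝔐) (k : ℕ)
    {m : Γ(lev 𝓘 𝔐 (k + 1), V.1)} (hm : t ^ (k + 1) • m = 0) : ∃ m' : Γ(lev 𝓘 𝔐 (k + 1), V.1), t • m' = m := by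
  haveI := FComplLib.isClosedImmersion_completionToX X 𝓘 (k + 1)
  let j := completionToX X 𝓘 (k + 1)
  haveI : Module.Flat Γ((completionAlong X 𝓘).X (k + 1), j ⁻¹ᵁ V.1) Γ(𝔐.F (k + 1), j ⁻¹ᵁ V.1) :=
    CohBCLib.flat_sections_of_isFinLocFree (𝔐.F (k + 1)) (hF (k + 1)) (V.2.preimage _)
  have hmul : j.app V.1 (t ^ (k + 1)) * j.app V.1 t = 0 := by
    rw [← map_mul, level_app_eq_zero_iff hV, ← pow_succ]
  refine exists_smul_eq_of_flat (R := Γ((completionAlong X 𝓘).X (k + 1), j ⁻¹ᵁ V.1))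
    (M := Γ(𝔐.F (k + 1), j ⁻¹ᵁ V.1)) hmul (fun r hr => ?_) hm
  obtain ⟨r, rfl⟩ := j.app_surjective _ V.2 r
  rw [← map_mul, level_app_eq_zero_iff hV, pow_succ] at hr
  obtain ⟨c, hc⟩ := hr
  have : r = t * c := by
    refine sub_eq_zero.1 (mem_nonZeroDivisors_iff_right.1 (pow_mem ht (k + 1)) _ ?_)
    rw [sub_mul, mul_comm r, hc]
    ring
  exact ⟨j.app V.1 c, by rw [this, map_mul]⟩

end ProjLefLib
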