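import Groth.Agent.ProjLefLib.Engine
import Groth.Agent.FormalCohLib.Ample

/-!
# Flat systems are quotients of untwisted free modules
-/

set_option autoImplicit false
set_option linter.style.haveILetI false
set_option linter.unusedSectionVars false
set_option backward.isDefEq.respectTransparency false
set_option backward.isDefEq.respectTransparency.types false
set_option maxHeartbeats 1000000

universe u

open CategoryTheory CategoryTheory.Limits AlgebraicGeometry TopologicalSpace Opposite

noncomputable section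

namespace ProjLefLib

variable {X : Scheme.{u}} {A : Type u} [CommRing A] [IsNoetherianRing A] [X.Over (Spec (CommRingCat.of A))]
  [IsProper (X ↘ Spec (CommRingCat.of A))] [IsLocallyNoetherian X] {L : X.Modules} {𝓘 : X.IdealSheafData}

include A in
/-- **A flat system receives a compatible family of maps from an untwisted free module, onto at the bottom.** -/
theorem exists_presentation (hI : BlowUp.IsEffCartierIdeal 𝓘) (hL : ClSub.IsInverseOf L (ClSub.idealMod 𝓘))
    (hamp : CohB1.IsAmple L) (G : FSys 𝓘) (hG : Van 𝓘 (G.F 0)) :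
    ∃ (C A' : X.Modules) (_ : PicF.IsInvertible C) (_ : CohB1.tensorMod C A' ≅ Coh.structureModule X) (m : ℕ)
      (g : ∀ n, CohB1.tensorMod A' (FlatMod.freeMod X m) ⟶ G.F n),
      (∀ n, g (n + 1) ≫ G.tr n = g n) ∧ Epi (g 0) := by
  haveI : CompactSpace X := hamp.2.1
  obtain ⟨d₁, hd₁⟩ := MiscFlat6.eventually_gg_of_isAmple hamp (G.F 0) (G.coh 0)
  obtain ⟨d₂, hd₂⟩ := exists_lifts (A := A) hI hL hamp G hG
  let d := max d₁ d₂
  let P := CohB1.tensorPow L d
  have hPi : PicF.IsInvertible P := AmpleThLib.tensorPow_isInvertible hamp.1 d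
  obtain ⟨e⟩ := MiscFlat6.nonempty_dualIso hPi
  let D := MiscFlat6.dual P
  have hDi : PicF.IsInvertible D := MiscFlat6.dual_isInvertible hPi
  let η := FormalCohLib.twInvIso ((HilbPolyLib.swapIso D P) ≪≫ e)
  have hgg : Curv2.IsGloballyGenerated ((twP L d).obj (G.F 0)) :=
    MiscFlat6.isGloballyGenerated_of_iso (HilbPolyLib.swapIso _ _) (hd₁ d (le_max_left _ _))
  have hcoh : Coh.IsCoh ((twP L d).obj (G.F 0)) := HilbPolyLib.isCoh_tensor hPi (G.coh 0)
  obtain ⟨m, q, hq⟩ := VBResLib.exists_epi_free_of_gg hcoh hgg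
  let ι₀ : Fin m → (Coh.structureModule X ⟶ FlatMod.freeMod X m) := fun i =>
    Sigma.ι (fun _ : Fin m => Coh.structureModule X) i
  choose fam hfam₀ hfam using fun i => hd₂ d (le_max_right _ _)
    ((ι₀ i ≫ q).app ⊤ (show Γ(Coh.structureModule X, ⊤) from (1 : Γ(X, ⊤))))
  let f : ∀ n, FlatMod.freeMod X m ⟶ (twP L d).obj (G.F n) := fun n =>
    Sigma.desc fun i => QCohLib.unitHom _ (fam i n)
  have hf : ∀ n, f (n + 1) ≫ (twP L d).map (G.tr n) = f n := fun n => Sigma.hom_ext _ _ fun i => by
    rw [Sigma.ι_desc_assoc, Sigma.ι_desc, QCohLib.app_unitHom_app, hfam]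
  have hf0 : f 0 = q := Sigma.hom_ext _ _ fun i => by
    rw [Sigma.ι_desc]
    show QCohLib.unitHom _ (fam i 0) = ι₀ i ≫ q
    rw [hfam₀]
    refine (Scheme.Modules.hom_ext _ _ fun V => ConcreteCategory.hom_ext _ _ fun c => ?_).symm
    exact (FibVanLib.app_eq_smul (ι₀ i ≫ q) V c).trans (QCohLib.unitHom_app _ _ V c).symm
  let g : ∀ n, CohB1.tensorMod D (FlatMod.freeMod X m) ⟶ G.F n := fun n =>
    (FormalCohLib.tw D).map (f n) ≫ η.hom.app (G.F n)
  refine ⟨P, D, hPi, e, m, g, fun n => ?_, ?_⟩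
  · show (_ ≫ _) ≫ _ = (FormalCohLib.tw D).map (f n) ≫ _
    rw [← hf n, Functor.map_comp, Category.assoc, Category.assoc]
    exact congrArg ((FormalCohLib.tw D).map (f (n + 1)) ≫ ·) (η.hom.naturality (G.tr n)).symm
  · haveI : Epi ((FormalCohLib.tw D).map (f 0)) := by
      rw [hf0]
      exact (HilbPolyLib.shortExact_tensor hDi
        ({ exact := ShortComplex.exact_of_f_is_kernel _ (kernelIsKernel q) } :
          (ShortComplex.mk _ _ (kernel.condition q)).ShortExact)).epi_g
    exact epi_comp _ _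

end ProjLefLib
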