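import Groth.Agent.ProjLefLib.Bundle
import Groth.Agent.LefFlatLib.Lef
import Groth.Agent.IntMultLib.Main
import Groth.Agent.QCohLib.Push
import Groth.Agent.CohAmpLib.Tools
import Groth.Agent.AmpleDevLib.Pull
import Groth.Agent.S10934

/-!
# The effective Lefschetz condition over a Noetherian base
-/

set_option autoImplicit false
set_option linter.style.haveILetI false
set_option linter.unusedSectionVars false
set_option backward.isDefEq.respectTransparency false
set_option backward.isDefEq.respectTransparency.types false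
set_option maxHeartbeats 1000000

universe u

open CategoryTheory CategoryTheory.Limits AlgebraicGeometry TopologicalSpace Opposite FSch
open scoped TensorProduct

noncomputable section

namespace ProjLefLib

variable {A : Type u} [CommRing A] [IsNoetherianRing A] {X : Scheme.{u}}

/-- Fibre depth of finite locally free modules. -/
theorem fibDepth_finLocFree (f : X ⟶ Spec (CommRingCat.of A)) [LocallyOfFiniteType f] {M : X.Modules}
    (hM : FlatMod.IsFinLocFree M) (n : ℕ)
    (h : ∀ x : X, IsClosed ({f.asFiber x} : Set ↥(f.fiber (f x))) →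
      (n : ℕ∞) < LocCoh.depth (CInt.fiberStalk f x) (CInt.fiberStalk f x)) :
    LefFlatLib.FibDepth f M n := by
  have key : ∀ (x : X) (s : Spec (CommRingCat.of A)), f x = s → ∀ z : f.fiber s, f.fiberι s z = x →
      IsClosed ({z} : Set (f.fiber s)) →
      (n : ℕ∞) < LocCoh.depth ((f.fiber s).presheaf.stalk z) ((f.fiber s).presheaf.stalk z) := by
    intro x s hs z hz hc
    subst hs
    obtain rfl : z = f.asFiber x := (f.fiberι (f x)).isEmbedding.injective (hz.trans (f.fiberι_asFiber x).symm)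
    exact h x hc
  intro s z hc
  have hs : f (f.fiberι s z) = s := by
    have h1 : f.fiberι s z ∈ f ⁻¹' {s} := by rw [← f.range_fiberι]; exact ⟨z, rfl⟩
    exact h1
  letI := ((f.fiberι s).stalkMap z).hom.toAlgebra
  obtain ⟨r, ⟨e⟩⟩ := LocSuppLib.nonempty_stalk_pi hM (f.fiberι s z)
  haveI : Module.Free (X.presheaf.stalk (f.fiberι s z)) (M.presheaf.stalk (f.fiberι s z)) := Module.Free.of_equiv e.symm
  haveI : Module.Finite (X.presheaf.stalk (f.fiberι s z)) (M.presheaf.stalk (f.fiberι s z)) := Module.Finite.equiv e.symm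
  haveI : LocallyOfFiniteType (f.fiberToSpecResidueField s) := MorphismProperty.pullback_snd _ _ inferInstance
  haveI : IsLocallyNoetherian (f.fiber s) := LocallyOfFiniteType.isLocallyNoetherian (f.fiberToSpecResidueField s)
  have h1 := Order.add_one_le_of_lt (key _ s hs z rfl hc)
  exact lt_of_lt_of_le (by exact_mod_cast Nat.lt_succ_self n) (Groth.Agent.S10934.depth_le_depth_of_free
    (R := (f.fiber s).presheaf.stalk z) (n + 1) (by exact_mod_cast h1))

/-- Finite locally free modules on a flat scheme are flat. -/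
theorem isFlatOver_finLocFree {S : Scheme.{u}} (f : X ⟶ S) [Flat f] {M : X.Modules} (hM : FlatMod.IsFinLocFree M) :
    FlatMod.IsFlatOver f M := fun x => by
  letI : Algebra (S.presheaf.stalk (f x)) (X.presheaf.stalk x) := (f.stalkMap x).hom.toAlgebra
  haveI : Module.Flat (S.presheaf.stalk (f x)) (X.presheaf.stalk x) := Flat.stalkMap f x
  obtain ⟨r, ⟨e⟩⟩ := LocSuppLib.nonempty_stalk_pi hM x
  letI : Module (S.presheaf.stalk (f x)) (M.presheaf.stalk x) := FlatMod.moduleStalkOver f M x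
  let e' : (M.presheaf.stalk x) ≃ₗ[S.presheaf.stalk (f x)] (Fin r → X.presheaf.stalk x) :=
    { e.toAddEquiv with map_smul' := fun c a => e.map_smul ((f.stalkMap x).hom c) a }
  show Module.Flat (S.presheaf.stalk (f x)) (M.presheaf.stalk x)
  classical
  exact Module.Flat.of_linearEquiv (e'.trans ((Finsupp.linearEquivFunOnFinite _ _ _).symm.trans (finsuppLequivDFinsupp _)))

variable [X.Over (Spec (CommRingCat.of A))] [IsProper (X ↘ Spec (CommRingCat.of A))]

/-- Vanishing for modules pushed forward from a flat closed subscheme. -/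
theorem exists_vanishing_push {Y : Scheme.{u}} (i : Y ⟶ X) [IsClosedImmersion i]
    [Flat (i ≫ (X ↘ Spec (CommRingCat.of A)))] {L M : X.Modules} (hamp : CohB1.IsAmple L) (hM : ClSub.IsInverseOf L M)
    {G : Y.Modules} (hG : FlatMod.IsFinLocFree G)
    (hd : ∀ y : Y, IsClosed ({((i ≫ (X ↘ Spec (CommRingCat.of A)))).asFiber y} :
        Set ↥(((i ≫ (X ↘ Spec (CommRingCat.of A)))).fiber (((i ≫ (X ↘ Spec (CommRingCat.of A)))) y))) →
      (2 : ℕ∞) ≤ LocCoh.depth ↑(CInt.fiberStalk (i ≫ (X ↘ Spec (CommRingCat.of A))) y)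
        ↑(CInt.fiberStalk (i ≫ (X ↘ Spec (CommRingCat.of A))) y)) :
    ∃ m₀ : ℕ, ∀ m, m₀ ≤ m → ∀ j, j < 2 →
      Subsingleton (Coh.HH X (CohB1.tensorMod ((Scheme.Modules.pushforward i).obj G) (CohB1.tensorPow M m)) j) := by
  letI : Y.Over (Spec (CommRingCat.of A)) := ⟨i ≫ (X ↘ Spec (CommRingCat.of A))⟩
  haveI : Flat (Y ↘ Spec (CommRingCat.of A)) := ‹Flat (i ≫ (X ↘ Spec (CommRingCat.of A)))›
  haveI : IsProper (Y ↘ Spec (CommRingCat.of A)) := inferInstanceAs (IsProper (i ≫ (X ↘ Spec (CommRingCat.of A))))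
  haveI : IsLocallyNoetherian X := LocallyOfFiniteType.isLocallyNoetherian (X ↘ Spec (CommRingCat.of A))
  haveI : IsLocallyNoetherian Y := LocallyOfFiniteType.isLocallyNoetherian i
  have hMi : PicF.IsInvertible M := CohCmpLib.isInvertible_of_inverse' hamp.1 hM.some
  let L' := (Scheme.Modules.pullback i).obj L
  let M' := (Scheme.Modules.pullback i).obj M
  haveI := KFlatLib.isIso_pullθ i L M
  have hM' : ClSub.IsInverseOf L' M' := ⟨(@asIso _ _ _ _ (KFlatLib.pullθ i L M) this).symm ≪≫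
    (Scheme.Modules.pullback i).mapIso hM.some ≪≫ KFlatLib.pullUnitIso i⟩
  have hamp' : CohB1.IsAmple L' := AmpleDevLib.isAmple_pb i hamp.1 hamp
  obtain ⟨m₀, hm₀⟩ := LefFlatLib.exists_vanishing (A := A) (L := L') (M := M') hamp' hM' G
    (LocSuppLib.isCoh_of_isFinLocFree hG) (isFlatOver_finLocFree _ hG) 1
    (fibDepth_finLocFree _ hG 1 fun y hy => lt_of_lt_of_le (by norm_num) (hd y hy))
  refine ⟨m₀, fun m hm j hj => ?_⟩
  obtain ⟨e⟩ := IntMultLib.nonempty_push_tensorPows i 1 G (fun _ => M) (fun _ => hMi) (fun _ => m)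
  refine SerreVanLib.subsingleton_HH_of_iso e.symm j ?_
  haveI hq : Coh.IsQCoh (Curv2.tensorPows G 1 (fun _ => M') fun _ => m) :=
    (SerreVanLib.isCoh_tensor (LocSuppLib.isCoh_of_isFinLocFree hG)
      (AmpleThLib.tensorPow_isInvertible (CohCmpLib.isInvertible_of_inverse' hamp'.1 hM'.some) m)).1
  obtain ⟨e'⟩ := QCohLib.nonempty_HH_push i (Curv2.tensorPows G 1 (fun _ => M') fun _ => m) j
  haveI : Subsingleton (Coh.HH Y (Curv2.tensorPows G 1 (fun _ => M') fun _ => m) j) := hm₀ m hm j (by omega)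
  exact e'.symm.injective.subsingleton

/-- **The effective Lefschetz condition for a relative ample divisor.** -/
theorem leffCond_fibre (𝓘 : X.IdealSheafData) {L : X.Modules} [Flat (X ↘ Spec (CommRingCat.of A))]
    (hL : ClSub.IsInverseOf L (ClSub.idealMod 𝓘)) (hamp : CohB1.IsAmple L)
    [hflat : Flat (𝓘.subschemeι ≫ (X ↘ Spec (CommRingCat.of A)))]
    (hd0 : ∀ y : ↥(𝓘.subscheme), IsClosed ({((𝓘.subschemeι ≫ (X ↘ Spec (CommRingCat.of A)))).asFiber y} :
        Set ↥(((𝓘.subschemeι ≫ (X ↘ Spec (CommRingCat.of A)))).fiber (((𝓘.subschemeι ≫ (X ↘ Spec (CommRingCat.of A)))) y))) →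
      (2 : ℕ∞) ≤ LocCoh.depth ↑(CInt.fiberStalk (𝓘.subschemeι ≫ (X ↘ Spec (CommRingCat.of A))) y)
        ↑(CInt.fiberStalk (𝓘.subschemeι ≫ (X ↘ Spec (CommRingCat.of A))) y))
    (hd : ∀ x : X, IsClosed ({((X ↘ Spec (CommRingCat.of A))).asFiber x} :
        Set ↥(((X ↘ Spec (CommRingCat.of A))).fiber (((X ↘ Spec (CommRingCat.of A))) x))) →
      (2 : ℕ∞) ≤ LocCoh.depth ↑(CInt.fiberStalk (X ↘ Spec (CommRingCat.of A)) x)
        ↑(CInt.fiberStalk (X ↘ Spec (CommRingCat.of A)) x)) : LefX.LeffCond X 𝓘 := by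
  haveI : IsLocallyNoetherian X := LocallyOfFiniteType.isLocallyNoetherian (X ↘ Spec (CommRingCat.of A))
  have hI : BlowUp.IsEffCartierIdeal 𝓘 := IntMultLib.isEffCartier_of_isInvertible 𝓘
    (CohCmpLib.isInvertible_of_inverse' hamp.1 hL.some)
  refine leffCond_of_van (A := A) hI hL hamp (fun M hM => ?_) (fun 𝔐 h𝔐 => ?_)
    (LefFlatLib.lefCond_fibre A 𝓘 hL hamp hd)
  · obtain ⟨m₀, hm₀⟩ := LefFlatLib.exists_vanishing (A := A) hamp hL M (LocSuppLib.isCoh_of_isFinLocFree hM)
      (isFlatOver_finLocFree _ hM) 1 (fibDepth_finLocFree _ hM 1 fun x hx => lt_of_lt_of_le (by norm_num) (hd x hx))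
    refine ⟨m₀, fun n hn j hj => ?_⟩
    obtain ⟨-, ⟨e⟩⟩ := BlowPtLib.nonempty_idealMod_pow 𝓘 hI n
    exact SerreVanLib.subsingleton_HH_of_iso (HilbPolyLib.congrRight M e.symm) j (hm₀ n hn j (by omega))
  · have hP : ∀ (K : X.IdealSheafData), K = 𝓘 → ∀ G : K.subscheme.Modules, FlatMod.IsFinLocFree G →
        ∃ m₀ : ℕ, ∀ m, m₀ ≤ m → ∀ j, j < 2 → Subsingleton (Coh.HH X (CohB1.tensorMod
          ((Scheme.Modules.pushforward K.subschemeι).obj G) (CohB1.tensorPow (ClSub.idealMod 𝓘) m)) j) := by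
      intro K hK
      subst hK
      intro G hG
      exact exists_vanishing_push (A := A) K.subschemeι hamp hL hG hd0
    obtain ⟨m₀, hm₀⟩ := hP (𝓘 ^ (0 + 1)) (pow_one 𝓘) (𝔐.F 0) (h𝔐 0)
    refine ⟨m₀, fun n hn j hj => ?_⟩
    obtain ⟨-, ⟨e⟩⟩ := BlowPtLib.nonempty_idealMod_pow 𝓘 hI n
    exact SerreVanLib.subsingleton_HH_of_iso (HilbPolyLib.congrRight _ e.symm) j (hm₀ n hn j hj)

end ProjLefLib
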