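import Groth.Agent.ProjLefLib.Levels
import Groth.Agent.ExtTwistLib.Basic
import Groth.Agent.SurfAmpleLib.QuotSeq
import Groth.Agent.HilbObsLib.Sections
import Groth.Agent.VBResLib.RegPush
import Groth.Agent.KoszShLib.Tens
import Groth.Agent.BlowPtLib.Plane

/-!
# The exact sequences of a locally free system along an effective Cartier divisor
-/

set_option autoImplicit false
set_option linter.style.haveILetI false
set_option linter.unusedSectionVars false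
set_option backward.isDefEq.respectTransparency false
set_option backward.isDefEq.respectTransparency.types false
set_option maxHeartbeats 1000000

universe u

open CategoryTheory CategoryTheory.Limits AlgebraicGeometry TopologicalSpace Opposite FSch
open AmpleLib (shT GenOn)

noncomputable section

namespace ProjLefLib

variable {X : Scheme.{u}} [IsLocallyNoetherian X] (𝓘 : X.IdealSheafData)

/-- Tensoring with the ideal. -/
abbrev tI : X.Modules ⥤ X.Modules := ((DCoh.tensorBi (X := X)).flip).obj (ClSub.idealMod 𝓘)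

theorem tI_shT {M N : X.Modules} (f : M ⟶ N) {V : X.Opens} (m : Γ(M, V)) (σ : Γ(ClSub.idealMod 𝓘, V)) :
    ((tI 𝓘).map f).app V (shT m σ) = shT (f.app V m) σ :=
  KFlatLib.tensorBi_map₁_shTm f _ m σ

/-- Multiplication by the ideal. -/
def mulI (M : X.Modules) : (tI 𝓘).obj M ⟶ M :=
  SurfAmpleLib.tmap M (ClSub.idealModι 𝓘) ≫ (SerreVanLib.exists_unit_iso M).choose

theorem mulI_shT (M : X.Modules) {V : X.Opens} (m : Γ(M, V)) (σ : Γ(ClSub.idealMod 𝓘, V)) :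
    (mulI 𝓘 M).app V (shT m σ) = SurfNumLib.val 𝓘 σ • m := by
  refine (congrArg ((SerreVanLib.exists_unit_iso M).choose.app V) (SurfAmpleLib.tmap_shT M _ V m σ)).trans ?_
  exact (SerreVanLib.exists_unit_iso M).choose_spec.2 V m _

theorem isQCoh_tI (hI : BlowUp.IsEffCartierIdeal 𝓘) {M : X.Modules} (hM : Coh.IsCoh M) :
    Coh.IsCoh ((tI 𝓘).obj M) :=
  SerreVanLib.isCoh_tensor hM (IntMultLib.isInvertible_idealMod 𝓘 hI)

theorem exists_chart (hI : BlowUp.IsEffCartierIdeal 𝓘) (x : X) :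
    ∃ (V : X.affineOpens) (t : Γ(X, V.1)), x ∈ V.1 ∧ t ∈ nonZeroDivisors Γ(X, V.1) ∧ 𝓘.ideal V = Ideal.span {t} := by
  obtain ⟨V, hx, t, ht, hV⟩ := hI x
  exact ⟨V, t, hx, ht, hV⟩

/-- Multiplication by a local generator, as a short exact sequence. -/
theorem exists_ses (hI : BlowUp.IsEffCartierIdeal 𝓘) {M Q P : X.Modules} (hM : Coh.IsCoh M) (hQ : Coh.IsCoh Q)
    (hP : Coh.IsCoh P) (q : M ⟶ Q) (p : M ⟶ P)
    (h : ∀ x : X, ∃ (V : X.affineOpens) (t : Γ(X, V.1)), x ∈ V.1 ∧ t ∈ nonZeroDivisors Γ(X, V.1) ∧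
      𝓘.ideal V = Ideal.span {t} ∧ Function.Surjective (q.app V.1) ∧ Function.Surjective (p.app V.1) ∧
      (∀ m, q.app V.1 m = 0 ↔ t • m = 0) ∧ ∀ m, p.app V.1 m = 0 ↔ ∃ m' : Γ(M, V.1), t • m' = m) :
    ∃ (τ : (tI 𝓘).obj Q ⟶ M) (w : τ ≫ p = 0), (ShortComplex.mk τ p w).ShortExact := by
  let f := (tI 𝓘).map q
  haveI : Coh.IsQCoh M := hM.1
  haveI : Coh.IsQCoh Q := hQ.1
  haveI : Coh.IsQCoh P := hP.1
  haveI : Coh.IsQCoh ((tI 𝓘).obj M) := (isQCoh_tI 𝓘 hI hM).1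
  haveI : Coh.IsQCoh ((tI 𝓘).obj Q) := (isQCoh_tI 𝓘 hI hQ).1
  have h' : ∀ x : X, ∃ (V : X.affineOpens) (t : Γ(X, V.1)) (σ : Γ(ClSub.idealMod 𝓘, V.1)), x ∈ V.1 ∧
      GenOn (ClSub.idealMod 𝓘) σ ∧ SurfNumLib.val 𝓘 σ = t ∧ Function.Surjective (q.app V.1) ∧
      Function.Surjective (p.app V.1) ∧ (∀ m, q.app V.1 m = 0 ↔ t • m = 0) ∧
        ∀ m, p.app V.1 m = 0 ↔ ∃ m' : Γ(M, V.1), t • m' = m := fun x => by
    obtain ⟨V, t, hx, ht, hV, h1⟩ := h x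
    obtain ⟨σ, hσ⟩ := IntMultLib.exists_section 𝓘 V (hV ▸ Ideal.mem_span_singleton_self t)
    exact ⟨V, t, σ, hx, SurfNumLib.genOn_of_generator 𝓘 V ht hV hσ, hσ, h1⟩
  haveI : Epi f := HilbObsLib.epi_of_app_surjective _ fun x => by
    obtain ⟨V, t, σ, hx, hσ, -, hq, -⟩ := h' x
    refine ⟨V.1, V.2, hx, fun z => ?_⟩
    obtain ⟨a, rfl⟩ := (ExtTwistLib.shT_right_bijective hσ).2 z
    obtain ⟨b, rfl⟩ := hq a
    exact ⟨shT b σ, tI_shT 𝓘 _ b σ⟩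
  haveI : Coh.IsQCoh (kernel f) := QCohLib.isQCoh_kernel f
  have h0 : kernel.ι f ≫ mulI 𝓘 M = 0 := HilbObsLib.eq_zero_of_app _ fun x => by
    obtain ⟨V, t, σ, hx, hσ, hval, -, -, hqk, -⟩ := h' x
    refine ⟨V.1, V.2, hx, fun z => ?_⟩
    obtain ⟨a, ha⟩ := (ExtTwistLib.shT_right_bijective hσ).2 ((kernel.ι f).app V.1 z)
    have h0 : f.app V.1 (shT a σ) = 0 :=
      (congrArg (f.app V.1) ha).trans congr(Scheme.Modules.Hom.app $(kernel.condition f) V.1 z)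
    rw [tI_shT] at h0
    have h1 : q.app V.1 a = 0 :=
      (ExtTwistLib.shT_right_bijective hσ).1 (h0.trans (KoszShLib.shT_zero_left' σ).symm)
    show (mulI 𝓘 M).app V.1 ((kernel.ι f).app V.1 z) = 0
    rw [← ha, mulI_shT, hval]
    exact (hqk a).1 h1
  let τ := Abelian.epiDesc f (mulI 𝓘 M) h0
  have hfτ : f ≫ τ = mulI 𝓘 M := Abelian.comp_epiDesc _ _ _
  have hτ : ∀ {V : X.Opens} (b : Γ(M, V)) (σ : Γ(ClSub.idealMod 𝓘, V)),
      τ.app V (shT (q.app V b) σ) = SurfNumLib.val 𝓘 σ • b := fun {V} b σ => by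
    rw [← tI_shT, ← mulI_shT, ← hfτ]
    rfl
  have w : τ ≫ p = 0 := HilbObsLib.eq_zero_of_app _ fun x => by
    obtain ⟨V, t, σ, hx, hσ, hval, hq, -, -, hpk⟩ := h' x
    refine ⟨V.1, V.2, hx, fun z => ?_⟩
    obtain ⟨a, rfl⟩ := (ExtTwistLib.shT_right_bijective hσ).2 z
    obtain ⟨b, rfl⟩ := hq a
    show p.app V.1 (τ.app V.1 _) = 0
    rw [hτ, hval]
    exact (hpk _).2 ⟨b, rfl⟩
  haveI : Coh.IsQCoh (kernel τ) := QCohLib.isQCoh_kernel τ
  haveI : Mono τ := Preadditive.mono_of_kernel_zero (HilbObsLib.eq_zero_of_app _ fun x => by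
    obtain ⟨V, t, σ, hx, hσ, hval, hq, -, hqk, -⟩ := h' x
    refine ⟨V.1, V.2, hx, fun z => ?_⟩
    obtain ⟨a, ha⟩ := (ExtTwistLib.shT_right_bijective hσ).2 ((kernel.ι τ).app V.1 z)
    obtain ⟨b, rfl⟩ := hq a
    have h1 : τ.app V.1 (shT (q.app V.1 b) σ) = 0 :=
      (congrArg (τ.app V.1) ha).trans congr(Scheme.Modules.Hom.app $(kernel.condition τ) V.1 z)
    rw [hτ, hval] at h1
    rw [(hqk b).2 h1] at ha
    exact ha.symm.trans (KoszShLib.shT_zero_left' σ))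
  haveI : Epi p := HilbObsLib.epi_of_app_surjective _ fun x => by
    obtain ⟨V, t, σ, hx, -, -, -, hp, -⟩ := h' x
    exact ⟨V.1, V.2, hx, hp⟩
  refine ⟨τ, w, { exact := ?_, mono_f := ‹Mono τ›, epi_g := ‹Epi p› }⟩
  haveI : Coh.IsQCoh (ShortComplex.mk τ p w).X₁ := ‹Coh.IsQCoh ((tI 𝓘).obj Q)›
  haveI : Coh.IsQCoh (ShortComplex.mk τ p w).X₂ := ‹Coh.IsQCoh M›
  haveI : Coh.IsQCoh (ShortComplex.mk τ p w).X₃ := ‹Coh.IsQCoh P›
  refine HilbObsLib.exact_of_app _ fun x => ?_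
  obtain ⟨V, t, σ, hx, hσ, hval, -, -, -, hpk⟩ := h' x
  refine ⟨V.1, V.2, hx, fun s hs => ?_⟩
  obtain ⟨b, rfl⟩ := (hpk s).1 hs
  exact ⟨shT (q.app V.1 b) σ, by show τ.app V.1 _ = _; rw [hτ, hval]⟩

end ProjLefLib
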